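/-! Certificate steps for the relations among the ten words in `HN`. -/

set_option autoImplicit false
set_option maxRecDepth 100000

namespace CfsgLib.HNTwelve.Cert

def a0 : List (Nat × Nat × Nat × List Nat) :=
  [(2, 6, 9, [3,0,2,1,3,5,5,5,5]),
    (1, 11, 5, []),
    (0, 0, 12, [])]

def a1 : List (Nat × Nat × Nat × List Nat) :=
  [(0, 23, 2, [0,0]),
    (2, 19, 6, [0,0,5]),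
    (0, 14, 7, [3,0,2,0,3]),
    (2, 13, 6, [3,0,2,0,3,5,5,5,5]),
    (1, 18, 5, []),
    (0, 11, 7, [3,0,2,1,3]),
    (2, 7, 9, [3,0,2,1,3,5,5,5,5]),
    (1, 12, 5, []),
    (0, 6, 7, [3,0,2,1,3]),
    (2, 5, 6, [3,0,2,1,3,5]),
    (1, 10, 5, []),
    (0, 0, 10, [])]

def a2 : List (Nat × Nat × Nat × List Nat) :=
  [(2, 37, 2, [0,5,5,5]),
    (0, 35, 3, [1]),
    (2, 31, 5, [1,5,5,5]),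
    (1, 32, 5, []),
    (0, 29, 3, [0,0,4]),
    (2, 28, 3, [0,0,5,5,5,5]),
    (0, 23, 7, [3,0,2,0,3]),
    (2, 19, 9, [3,0,2,0,3,5]),
    (1, 24, 5, []),
    (0, 17, 8, [0,3,0,2,0,3]),
    (2, 16, 7, [0,3,0,2,0,3,5,5]),
    (0, 14, 8, [0,3,0,2,1,3]),
    (2, 10, 10, [0,3,0,2,1,3,5,5]),
    (1, 16, 5, []),
    (0, 8, 9, [3,0,2,1,3]),
    (2, 7, 6, [3,0,2,1,3,5]),
    (1, 12, 5, []),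
    (0, 6, 7, [3,0,2,1,3]),
    (2, 5, 6, [3,0,2,1,3,5]),
    (1, 10, 5, []),
    (0, 0, 10, [])]

def a3 : List (Nat × Nat × Nat × List Nat) :=
  [(0, 57, 2, []),
    (1, 53, 5, []),
    (0, 48, 5, [0,0,4,2,2,0,3]),
    (2, 47, 3, [0,0,5,5,5,5]),
    (0, 45, 4, []),
    (1, 41, 5, []),
    (2, 35, 5, [2,0,3,3,5,5,5]),
    (0, 28, 11, [3,0,3]),
    (2, 24, 7, [3,0,3,5,5]),
    (1, 27, 5, []),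
    (0, 20, 8, []),
    (2, 13, 6, [0,0,5]),
    (1, 15, 5, []),
    (0, 9, 11, [3,0,2,1,3]),
    (2, 8, 6, [3,0,2,1,3,5]),
    (0, 6, 7, [3,0,2,1,3]),
    (2, 5, 6, [3,0,2,1,3,5]),
    (1, 10, 5, []),
    (0, 0, 10, [])]

def a4 : List (Nat × Nat × Nat × List Nat) :=
  [(2, 66, 6, [1,3,5,5,5]),
    (0, 59, 9, [0,4,3,4,0,3,3,0,3]),
    (2, 58, 2, [0,5,5,5]),
    (0, 56, 3, [1]),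
    (2, 52, 5, [1,5,5,5]),
    (1, 53, 5, []),
    (0, 45, 8, [2,2,1,4,2,4]),
    (2, 44, 4, [2,2,1,5,5]),
    (0, 35, 12, [2,2,2,1]),
    (2, 31, 8, [2,2,2,1,5,5,5]),
    (1, 35, 5, []),
    (0, 24, 14, [2,1]),
    (2, 23, 3, [2,1,5,5]),
    (0, 21, 4, [2,0]),
    (2, 17, 6, [2,0,5,5]),
    (1, 19, 5, []),
    (0, 10, 17, [2,1,3]),
    (2, 9, 4, [2,1,3,5,5]),
    (1, 12, 5, []),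
    (0, 6, 7, [3,0,2,1,3]),
    (2, 5, 6, [3,0,2,1,3,5]),
    (1, 10, 5, []),
    (0, 0, 10, [])]

def a5 : List (Nat × Nat × Nat × List Nat) :=
  [(2, 66, 6, [1,2,5,5,5]),
    (0, 59, 9, [0,4,2,4,0,2,2,0,2]),
    (2, 58, 2, [0,5,5,5]),
    (0, 56, 3, [1]),
    (2, 52, 5, [1,5,5,5]),
    (1, 53, 5, []),
    (0, 45, 8, [3,3,1,4,3,4]),
    (2, 44, 4, [3,3,1,5,5]),
    (0, 35, 12, [0,3,3,0,2,0,3,3,0,3,3,1]),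
    (2, 31, 16, [0,3,3,0,2,0,3,3,0,3,3,1,5,5,5]),
    (1, 43, 5, []),
    (0, 24, 22, [0,3,0,3,3,0,3,3,0,2,0,3,3,0,3,3,0,3]),
    (2, 23, 19, [0,3,0,3,3,0,3,3,0,2,0,3,3,0,3,3,0,3,5,5]),
    (0, 21, 20, [0,3,0,3,3,0,3,3,0,2,0,3,3,0,3,3,1,3]),
    (2, 17, 22, [0,3,0,3,3,0,3,3,0,2,0,3,3,0,3,3,1,3,5,5]),
    (1, 35, 5, []),
    (0, 10, 33, [0,3,3,0,2,0,3]),
    (2, 9, 8, [0,3,3,0,2,0,3,5,5]),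
    (1, 16, 5, []),
    (0, 6, 11, [3,0,2,1,3]),
    (2, 5, 6, [3,0,2,1,3,5]),
    (1, 10, 5, []),
    (0, 0, 10, [])]

def a6 : List (Nat × Nat × Nat × List Nat) :=
  [(2, 55, 5, [1,5,5,5]),
    (0, 49, 7, [0,2,2,0,3,3,0,2,2,0,3,3,1,4,2,2,4,3,3]),
    (2, 48, 14, [0,2,2,0,3,3,0,2,2,0,3,3,1,5,5]),
    (0, 46, 15, [0,2,2,0,3,3,0,2,2,0,3,3,0]),
    (2, 42, 17, [0,2,2,0,3,3,0,2,2,0,3,3,0,5,5]),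
    (0, 36, 19, [0,2,2,4,3,3,4]),
    (2, 35, 4, [0,2,2,5,5,5]),
    (0, 28, 10, [0,3,0,2,1,2]),
    (2, 24, 10, [0,3,0,2,1,2,5,5]),
    (1, 30, 5, []),
    (0, 20, 14, [0,3,0,2,1,3]),
    (2, 19, 7, [0,3,0,2,1,3,5,5,5]),
    (1, 25, 5, []),
    (0, 17, 8, [0,3,0,2,0,3]),
    (2, 13, 10, [0,3,0,2,0,3,5,5,5]),
    (1, 19, 5, []),
    (0, 9, 16, [0,3,0,2,0,3]),
    (2, 8, 7, [0,3,0,2,0,3,5,5]),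
    (1, 14, 5, []),
    (0, 6, 9, [3,0,2,1,3]),
    (2, 5, 6, [3,0,2,1,3,5]),
    (1, 10, 5, []),
    (0, 0, 10, [])]

def a7 : List (Nat × Nat × Nat × List Nat) :=
  [(0, 57, 2, []),
    (1, 53, 5, []),
    (0, 49, 4, [0,0,4,2,0,2]),
    (2, 48, 3, [0,0,5,5,5,5]),
    (0, 46, 4, []),
    (1, 42, 5, []),
    (2, 37, 4, [3,0,3,5,5,5]),
    (0, 30, 10, [3,0,2,0,3,3,1,3]),
    (2, 26, 12, [3,0,2,0,3,3,1,3,5,5]),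
    (1, 34, 5, []),
    (0, 21, 14, [2,2,0,3,3,0,2,0,3,3,0,3]),
    (2, 20, 13, [2,2,0,3,3,0,2,0,3,3,0,3,5]),
    (0, 18, 14, [2,2,0,3,3,0,2,0,3,3,1,3]),
    (2, 14, 16, [2,2,0,3,3,0,2,0,3,3,1,3,5]),
    (1, 26, 5, []),
    (0, 9, 21, [3,0,2,1,3]),
    (2, 8, 6, [3,0,2,1,3,5]),
    (0, 6, 7, [3,0,2,1,3]),
    (2, 5, 6, [3,0,2,1,3,5]),
    (1, 10, 5, []),
    (0, 0, 10, [])]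

def a8 : List (Nat × Nat × Nat × List Nat) :=
  [(2, 51, 5, [1,5,5,5]),
    (0, 47, 5, [2,1,3,4,2,4,3]),
    (2, 46, 4, [2,1,3,5,5]),
    (0, 44, 5, [2,0,3]),
    (2, 40, 7, [2,0,3,5,5]),
    (0, 36, 7, [0,2,4,3,4]),
    (2, 35, 3, [0,2,5,5,5]),
    (0, 28, 9, [0,3,0,2,1]),
    (2, 24, 9, [0,3,0,2,1,5,5]),
    (1, 29, 5, []),
    (0, 20, 12, [0,3,0,2,1,3]),
    (2, 19, 7, [0,3,0,2,1,3,5,5,5]),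
    (1, 25, 5, []),
    (0, 17, 8, [0,3,0,2,0,3]),
    (2, 13, 10, [0,3,0,2,0,3,5,5,5]),
    (1, 19, 5, []),
    (0, 9, 14, [0,3,0,2,0,3]),
    (2, 8, 7, [0,3,0,2,0,3,5,5]),
    (1, 14, 5, []),
    (0, 6, 9, [3,0,2,1,3]),
    (2, 5, 6, [3,0,2,1,3,5]),
    (1, 10, 5, []),
    (0, 0, 10, [])]

def a9 : List (Nat × Nat × Nat × List Nat) :=
  [(2, 55, 5, [1,5,5,5]),
    (0, 51, 5, [3,1,2,4,3,4,2]),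
    (2, 50, 4, [3,1,2,5,5]),
    (0, 48, 5, [3,0,2]),
    (2, 44, 7, [3,0,2,5,5]),
    (0, 40, 7, [0,3,4,2,4]),
    (2, 39, 3, [0,3,5,5,5]),
    (0, 32, 9, [0,3,0,2,1,3,3]),
    (2, 28, 11, [0,3,0,2,1,3,3,5,5]),
    (1, 35, 5, []),
    (0, 22, 16, [2,2,2,0,3,0,2,2,0,3,3,0,3,0,3,3,0,2,1]),
    (2, 21, 20, [2,2,2,0,3,0,2,2,0,3,3,0,3,0,3,3,0,2,1,5,5,5]),
    (1, 40, 5, []),
    (0, 19, 21, [2,2,2,0,3,0,2,2,0,3,3,0,3,0,3,3,0,2,0]),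
    (2, 15, 23, [2,2,2,0,3,0,2,2,0,3,3,0,3,0,3,3,0,2,0,5,5,5]),
    (1, 34, 5, []),
    (0, 9, 29, [0,3,0,2,0,3]),
    (2, 8, 7, [0,3,0,2,0,3,5,5]),
    (1, 14, 5, []),
    (0, 6, 9, [3,0,2,1,3]),
    (2, 5, 6, [3,0,2,1,3,5]),
    (1, 10, 5, []),
    (0, 0, 10, [])]

def b0 : List (Nat × Nat × Nat × List Nat) :=
  [(2, 9, 12, [3,3,0,2,2,1,3,3,5,5,5,5]),
    (1, 17, 5, []),
    (0, 0, 18, [])]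

def b1 : List (Nat × Nat × Nat × List Nat) :=
  [(0, 29, 2, [0,0]),
    (2, 25, 6, [0,0,5]),
    (0, 17, 10, [3,3,0,2,2,0,3,3]),
    (2, 16, 9, [3,3,0,2,2,0,3,3,5,5,5,5]),
    (1, 24, 5, []),
    (0, 14, 10, [3,3,0,2,2,1,3,3]),
    (2, 10, 12, [3,3,0,2,2,1,3,3,5,5,5,5]),
    (1, 18, 5, []),
    (0, 9, 10, [3,3,0,2,2,1,3,3]),
    (2, 8, 9, [3,3,0,2,2,1,3,3,5]),
    (1, 16, 5, []),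
    (0, 0, 16, [])]

def b2 : List (Nat × Nat × Nat × List Nat) :=
  [(2, 43, 2, [0,5,5,5]),
    (0, 41, 3, [1]),
    (2, 37, 5, [1,5,5,5]),
    (1, 38, 5, []),
    (0, 35, 3, [0,0,4]),
    (2, 34, 3, [0,0,5,5,5,5]),
    (0, 26, 10, [3,3,0,2,2,0,3,3]),
    (2, 22, 12, [3,3,0,2,2,0,3,3,5]),
    (1, 30, 5, []),
    (0, 20, 11, [0,3,3,0,2,2,0,3,3]),
    (2, 19, 10, [0,3,3,0,2,2,0,3,3,5,5]),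
    (0, 17, 11, [0,3,3,0,2,2,1,3,3]),
    (2, 13, 13, [0,3,3,0,2,2,1,3,3,5,5]),
    (1, 22, 5, []),
    (0, 11, 12, [3,3,0,2,2,1,3,3]),
    (2, 10, 9, [3,3,0,2,2,1,3,3,5]),
    (1, 18, 5, []),
    (0, 9, 10, [3,3,0,2,2,1,3,3]),
    (2, 8, 9, [3,3,0,2,2,1,3,3,5]),
    (1, 16, 5, []),
    (0, 0, 16, [])]

def b3 : List (Nat × Nat × Nat × List Nat) :=
  [(0, 61, 2, []),
    (1, 57, 5, []),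
    (0, 53, 4, [0,0,4,2,0,2]),
    (2, 52, 3, [0,0,5,5,5,5]),
    (0, 50, 4, []),
    (1, 46, 5, []),
    (2, 41, 4, [3,0,3,5,5,5]),
    (0, 31, 13, [3,3,0,2,2,0,2,2,2,1,3]),
    (2, 27, 15, [3,3,0,2,2,0,2,2,2,1,3,5,5]),
    (1, 38, 5, []),
    (0, 23, 16, [2,0,3,0,2,2,0,2,2,2,0,3]),
    (2, 22, 13, [2,0,3,0,2,2,0,2,2,2,0,3,5]),
    (0, 20, 14, [2,0,3,0,2,2,0,2,2,2,1,3]),
    (2, 16, 16, [2,0,3,0,2,2,0,2,2,2,1,3,5]),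
    (1, 28, 5, []),
    (0, 12, 20, [3,3,0,2,2,1,3,3]),
    (2, 11, 9, [3,3,0,2,2,1,3,3,5]),
    (0, 9, 10, [3,3,0,2,2,1,3,3]),
    (2, 8, 9, [3,3,0,2,2,1,3,3,5]),
    (1, 16, 5, []),
    (0, 0, 16, [])]

def b4 : List (Nat × Nat × Nat × List Nat) :=
  [(0, 71, 2, []),
    (1, 67, 5, []),
    (0, 62, 5, [0,0,4,2,2,0,3]),
    (2, 61, 3, [0,0,5,5,5,5]),
    (0, 59, 4, []),
    (1, 55, 5, []),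
    (2, 49, 5, [2,0,3,3,5,5,5]),
    (0, 38, 15, [0,3,0,2,2,0,3,0,2,2,2,1,3,4,2,0,2]),
    (2, 34, 17, [0,3,0,2,2,0,3,0,2,2,2,1,3,5,5,5]),
    (0, 27, 20, [2,2,2,0,3,0,3,3,0,2,0,2,2,0,2,0,2,2,1,4,2,0,2,4]),
    (2, 26, 20, [2,2,2,0,3,0,3,3,0,2,0,2,2,0,2,0,2,2,1,5,5,5]),
    (0, 24, 21, [2,2,2,0,3,0,3,3,0,2,0,2,2,0,2,0,2,2,0]),
    (2, 20, 23, [2,2,2,0,3,0,3,3,0,2,0,2,2,0,2,0,2,2,0,5,5,5]),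
    (1, 39, 5, []),
    (0, 13, 26, [0,3,0,2,2,0,2,0,2,2,2,0,2,2,0,2,0,3,4,2,0,2,4]),
    (2, 12, 19, [0,3,0,2,2,0,2,0,2,2,2,0,2,2,0,2,0,3,5,5]),
    (0, 9, 21, [3,3,0,2,2,0,2,0,2,2,2,0,2,2,0,2,1,3,4]),
    (2, 8, 19, [3,3,0,2,2,0,2,0,2,2,2,0,2,2,0,2,1,3,5]),
    (0, 0, 26, [2,0,2,2,2,0,3,3,0,3,3,0,3]),
    (0, 38, 1, [0,4,0]),
    (2, 40, 4, [5,0]),
    (2, 36, 3, [0,5]),
    (1, 37, 3, [4,5,5,5,5,4]),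
    (0, 42, 7, [0,2,2,1,3]),
    (2, 38, 9, [0,2,2,1,3,5,5,5,5]),
    (1, 43, 5, []),
    (0, 36, 7, [0,0,4,2,2,0,3]),
    (2, 35, 3, [0,0,5,5,5,5]),
    (0, 31, 6, [0,0,4,2,0,2]),
    (2, 28, 5, [0,0,5,5]),
    (0, 23, 7, [0,0,4,2,0,2,4]),
    (2, 22, 3, [0,0,5,5,5,5]),
    (0, 17, 7, [0,0,4,2,0,2,4]),
    (2, 15, 4, [0,0,5,5,5]),
    (0, 14, 3, [0,0,4]),
    (2, 13, 3, [0,0,5,5,5,5]),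
    (0, 0, 15, [2,0,2,2,2,0,3,3,0,3,3,1,3]),
    (0, 37, 4, [0,4,0,2,0,2]),
    (2, 39, 8, [5,0,2,0,2]),
    (2, 35, 3, [0,5]),
    (1, 36, 3, [4,5,5,5,5,4]),
    (0, 41, 10, [0,2,0,2,4,2,2,0,3,4]),
    (2, 37, 8, [0,2,0,2,5]),
    (0, 30, 11, [2,0,2,2,0,2,4]),
    (2, 26, 10, [2,0,2,2,0,2,5]),
    (0, 21, 11, [2,0,2,2,0,2,4,2,0,2,4]),
    (2, 18, 9, [2,0,2,2,0,2,5,5]),
    (0, 17, 7, [2,0,2,2,0,2,4]),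
    (2, 13, 10, [2,0,2,2,0,2,5]),
    (0, 0, 19, [2,0,2,2,2,1,3]),
    (1, 16, 3, [4,5,5,5,5,4]),
    (0, 21, 7, [2,2,0,3,4]),
    (2, 17, 8, [2,2,0,3,5,5]),
    (0, 11, 10, [2,0,2,2,2,0,3,4]),
    (2, 9, 9, [2,0,2,2,2,0,3,5,5,5]),
    (0, 8, 8, [2,0,2,2,2,0,3,4]),
    (2, 7, 8, [2,0,2,2,2,0,3,5,5,5,5]),
    (0, 0, 14, [0,0]),
    (0, 6, 1, [0,4,0]),
    (2, 8, 4, [5,0]),
    (2, 4, 3, [0,5]),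
    (1, 5, 3, [4,5,5,5,5,4]),
    (0, 10, 3, [1]),
    (2, 6, 5, [1,5,5,5]),
    (1, 7, 5, []),
    (0, 4, 4, [0,0]),
    (2, 2, 4, [0,0,5,5,5]),
    (1, 4, 5, []),
    (0, 0, 4, [])]

def b5 : List (Nat × Nat × Nat × List Nat) :=
  [(2, 65, 5, [1,5,5,5]),
    (0, 61, 5, [3,1,2,4,3,4,2]),
    (2, 60, 4, [3,1,2,5,5]),
    (0, 58, 5, [3,0,2]),
    (2, 54, 7, [3,0,2,5,5]),
    (0, 50, 7, [0,3,4,2,4]),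
    (2, 49, 3, [0,3,5,5,5]),
    (0, 38, 13, [3,3,0,2,2,2,0,3,3,1]),
    (2, 34, 14, [3,3,0,2,2,2,0,3,3,1,5,5]),
    (1, 44, 5, []),
    (0, 27, 20, [3,0,2,0,2,0,2,2,2,0,3,0,3,0,2,1]),
    (2, 26, 17, [3,0,2,0,2,0,2,2,2,0,3,0,3,0,2,1,5,5,5]),
    (1, 42, 5, []),
    (0, 24, 18, [3,0,2,0,2,0,2,2,2,0,3,0,3,0,2,0]),
    (2, 20, 20, [3,0,2,0,2,0,2,2,2,0,3,0,3,0,2,0,5,5,5]),
    (1, 36, 5, []),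
    (0, 13, 27, [0,2,2,2,0,2,2,0,3,3]),
    (2, 12, 11, [0,2,2,2,0,2,2,0,3,3,5,5]),
    (1, 22, 5, []),
    (0, 9, 14, [3,3,0,2,2,1,3,3]),
    (2, 8, 9, [3,3,0,2,2,1,3,3,5]),
    (1, 16, 5, []),
    (0, 0, 16, [])]

def b6 : List (Nat × Nat × Nat × List Nat) :=
  [(2, 64, 6, [1,2,5,5,5]),
    (0, 57, 9, [0,4,2,4,0,2,2,0,2]),
    (2, 56, 2, [0,5,5,5]),
    (0, 54, 3, [1]),
    (2, 50, 5, [1,5,5,5]),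
    (1, 51, 5, []),
    (0, 43, 8, [3,3,1,4,3,4]),
    (2, 42, 4, [3,3,1,5,5]),
    (0, 31, 14, [0,2,0,3,3,0,2,2,2,0,2,2,1]),
    (2, 27, 17, [0,2,0,3,3,0,2,2,2,0,2,2,1,5,5,5]),
    (1, 40, 5, []),
    (0, 23, 20, [3,0,2,2,0,2,2,2,0,3,0,3,3,1]),
    (2, 22, 15, [3,0,2,2,0,2,2,2,0,3,0,3,3,1,5,5]),
    (0, 20, 16, [3,0,2,2,0,2,2,2,0,3,0,3,3,0]),
    (2, 16, 18, [3,0,2,2,0,2,2,2,0,3,0,3,3,0,5,5]),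
    (1, 30, 5, []),
    (0, 12, 26, [0,3,3,0,2,2,0,3,3]),
    (2, 11, 10, [0,3,3,0,2,2,0,3,3,5,5]),
    (1, 20, 5, []),
    (0, 9, 12, [3,3,0,2,2,1,3,3]),
    (2, 8, 9, [3,3,0,2,2,1,3,3,5]),
    (1, 16, 5, []),
    (0, 0, 16, [])]

def b7 : List (Nat × Nat × Nat × List Nat) :=
  [(2, 66, 6, [1,3,5,5,5]),
    (0, 59, 9, [0,4,3,4,0,3,3,0,3]),
    (2, 58, 2, [0,5,5,5]),
    (0, 56, 3, [1]),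
    (2, 52, 5, [1,5,5,5]),
    (1, 53, 5, []),
    (0, 45, 8, [2,2,1,4,2,4]),
    (2, 44, 4, [2,2,1,5,5]),
    (0, 33, 14, [3,3,0,2,2,0,3,0,2,2,0,2,4,3]),
    (2, 29, 16, [3,3,0,2,2,0,3,0,2,2,0,2,5,5,5,5]),
    (0, 24, 17, [2,0,3,0,2,2,0,3,0,3,3,0,2,2,0,3,3,0,3,3,0,4,3,4,2,4]),
    (2, 23, 22, [2,0,3,0,2,2,0,3,0,3,3,0,2,2,0,3,3,0,3,3,0,5]),
    (0, 21, 23, [2,0,3,0,2,2,0,3,0,3,3,0,2,2,0,3,3,0,3,3,1]),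
    (2, 17, 25, [2,0,3,0,2,2,0,3,0,3,3,0,2,2,0,3,3,0,3,3,1,5]),
    (0, 12, 26, [3,3,0,2,2,0,3,0,2,2,1,2,4,3,4,2,4]),
    (2, 11, 13, [3,3,0,2,2,0,3,0,2,2,1,2,5,5,5,5]),
    (0, 9, 14, [3,3,0,2,2,0,3,0,2,2,1,2]),
    (2, 8, 13, [3,3,0,2,2,0,3,0,2,2,1,2,5,5,5,5]),
    (1, 20, 5, []),
    (0, 0, 20, [2,0,2,2,0,2]),
    (0, 9, 5, [2,2,2,0,3,3,0,3,0,3,3,0,2,2,0,2,0,2,0,2,2,0,2,4,2,2,2,0,3,0,3,3,0,3,3]),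
    (2, 33, 13, [5,2,2,2,0,3,0,3,3,0,3,3]),
    (2, 8, 24, [2,2,2,0,3,3,0,3,0,3,3,0,2,2,0,2,0,2,0,2,2,0,2,5]),
    (1, 31, 3, [4,5,5,5,5,4]),
    (0, 36, 17, [3,0,3,3,0,3,0,3,0,3,3,0,2,2,0,2,0,2,2,0,2,2,2]),
    (2, 32, 27, [3,0,3,3,0,3,0,3,0,3,3,0,2,2,0,2,0,2,2,0,2,2,2,5,5,5,5]),
    (1, 55, 5, []),
    (0, 8, 47, [0,3,3,0,3,0,3,3,0,2,2,0,2,0,2,2,0,3,3,0,3,1,3,4,3,4,2,4]),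
    (2, 6, 25, [0,3,3,0,3,0,3,3,0,2,2,0,2,0,2,2,0,3,3,0,3,1,3,5,5,5,5]),
    (0, 0, 29, [2,0,2,0,2,2,0,3,3,0,3,0,2,2,0,3,0,3,3,0,2,2,0,3]),
    (0, 36, 2, [0,4,0,3]),
    (2, 38, 4, [5,5,5,5,0,3]),
    (2, 33, 4, [0,5,5,5,5]),
    (1, 34, 9, [4,5,4]),
    (0, 36, 6, [1,4,3,4,2,4]),
    (2, 35, 2, [1,5,5]),
    (0, 28, 8, [0,0,4,3,4,2]),
    (2, 24, 6, [0,0,5]),
    (0, 0, 26, [2,0,2,0,2,2,0,3,3,0,3,0,2,2,0,3,0,3,3,0,2,2,1,3]),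
    (0, 31, 5, [2,2,2,0,3,3,0,3,0,3,3,0,2,2,0,2,0,2,0,2,2,0,2,0,4,0,2,2,2,0,3,0,3,3,0,3,3]),
    (2, 56, 13, [5,0,2,2,2,0,3,0,3,3,0,3,3]),
    (2, 29, 26, [2,2,2,0,3,3,0,3,0,3,3,0,2,2,0,2,0,2,0,2,2,0,2,0,5]),
    (1, 53, 3, [4,5,5,5,5,4]),
    (0, 58, 21, [0,3,0,2,2,0,2,2,0,3,0,3,0,3,3,0,2,2,0,2,0,2,4]),
    (2, 54, 26, [0,3,0,2,2,0,2,2,0,3,0,3,0,3,3,0,2,2,0,2,0,2,5,5]),
    (0, 25, 51, [2,0,3,0,3,3,0,3,0,2,2,0,3,0,3,3,0,2,2,0,2,1,2,2,4]),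
    (2, 24, 25, [2,0,3,0,3,3,0,3,0,2,2,0,3,0,3,3,0,2,2,0,2,1,2,2,5,5]),
    (0, 0, 48, [0,0]),
    (1, 2, 0, [5,5,5,5,5]),
    (0, 9, 1, [0,4,0]),
    (2, 11, 3, [5,5,5,5,0]),
    (2, 6, 4, [0,5,5,5,5]),
    (1, 7, 9, [4,5,4]),
    (0, 9, 3, [1]),
    (2, 8, 2, [1,5,5]),
    (1, 9, 5, []),
    (0, 6, 4, [0,0]),
    (2, 2, 6, [0,0,5]),
    (1, 4, 5, []),
    (0, 0, 4, [])]

def b8 : List (Nat × Nat × Nat × List Nat) :=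
  [(2, 57, 5, [1,5,5,5]),
    (0, 53, 5, [2,1,3,4,2,4,3]),
    (2, 52, 4, [2,1,3,5,5]),
    (0, 50, 5, [2,0,3]),
    (2, 46, 7, [2,0,3,5,5]),
    (0, 42, 7, [0,2,4,3,4]),
    (2, 41, 3, [0,2,5,5,5]),
    (0, 31, 12, [0,3,3,0,2,2,1,3]),
    (2, 27, 12, [0,3,3,0,2,2,1,3,5,5]),
    (1, 35, 5, []),
    (0, 23, 15, [0,3,3,0,2,2,1,3,3]),
    (2, 22, 10, [0,3,3,0,2,2,1,3,3,5,5,5]),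
    (1, 31, 5, []),
    (0, 20, 11, [0,3,3,0,2,2,0,3,3]),
    (2, 16, 13, [0,3,3,0,2,2,0,3,3,5,5,5]),
    (1, 25, 5, []),
    (0, 12, 17, [0,3,3,0,2,2,0,3,3]),
    (2, 11, 10, [0,3,3,0,2,2,0,3,3,5,5]),
    (1, 20, 5, []),
    (0, 9, 12, [3,3,0,2,2,1,3,3]),
    (2, 8, 9, [3,3,0,2,2,1,3,3,5]),
    (1, 16, 5, []),
    (0, 0, 16, [])]

def b9 : List (Nat × Nat × Nat × List Nat) :=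
  [(2, 65, 5, [1,5,5,5]),
    (0, 59, 7, [0,2,2,0,3,3,0,2,2,0,3,3,1,4,2,2,4,3,3]),
    (2, 58, 14, [0,2,2,0,3,3,0,2,2,0,3,3,1,5,5]),
    (0, 56, 15, [0,2,2,0,3,3,0,2,2,0,3,3,0]),
    (2, 52, 17, [0,2,2,0,3,3,0,2,2,0,3,3,0,5,5]),
    (0, 46, 19, [0,2,2,4,3,3,4]),
    (2, 45, 4, [0,2,2,5,5,5]),
    (0, 35, 13, [0,3,3,0,2,2,1]),
    (2, 31, 11, [0,3,3,0,2,2,1,5,5]),
    (1, 38, 5, []),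
    (0, 25, 17, [0,2,2,2,0,2,0,3,0,3,0,3,0,2,0,2,0,2,2,0,3,3]),
    (2, 24, 23, [0,2,2,2,0,2,0,3,0,3,0,3,0,2,0,2,0,2,2,0,3,3,5,5,5]),
    (1, 46, 5, []),
    (0, 22, 24, [0,2,2,2,0,2,0,3,0,3,0,3,0,2,0,2,0,2,2,1,3,3]),
    (2, 18, 26, [0,2,2,2,0,2,0,3,0,3,0,3,0,2,0,2,0,2,2,1,3,3,5,5,5]),
    (1, 40, 5, []),
    (0, 12, 34, [0,3,3,0,2,2,0,3,3]),
    (2, 11, 10, [0,3,3,0,2,2,0,3,3,5,5]),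
    (1, 20, 5, []),
    (0, 9, 12, [3,3,0,2,2,1,3,3]),
    (2, 8, 9, [3,3,0,2,2,1,3,3,5]),
    (1, 16, 5, []),
    (0, 0, 16, [])]

def c0 : List (Nat × Nat × Nat × List Nat) :=
  [(1, 1, 9, [4,5,4]),
    (0, 3, 2, []),
    (1, 2, 5, []),
    (0, 0, 2, [])]

def c1 : List (Nat × Nat × Nat × List Nat) :=
  [(2, 20, 6, [0,0,5]),
    (0, 19, 3, [0,0,4]),
    (2, 17, 4, [0,0,5,5,5]),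
    (0, 15, 4, []),
    (1, 11, 5, []),
    (2, 2, 6, [0,0,5]),
    (0, 1, 3, [0,0,4]),
    (2, 0, 3, [0,0,5,5,5,5]),
    (0, 6, 1, [0,4,0]),
    (2, 8, 4, [5,0]),
    (2, 4, 3, [0,5]),
    (1, 5, 3, [4,5,5,5,5,4]),
    (0, 10, 3, [1]),
    (2, 6, 5, [1,5,5,5]),
    (1, 7, 5, []),
    (0, 4, 4, [0,0]),
    (2, 2, 4, [0,0,5,5,5]),
    (1, 4, 5, []),
    (0, 0, 4, [])]

def c2 : List (Nat × Nat × Nat × List Nat) :=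
  [(1, 14, 5, []),
    (1, 27, 5, []),
    (2, 37, 2, [0,5,5,5]),
    (0, 35, 3, [1]),
    (2, 31, 5, [1,5,5,5]),
    (1, 32, 5, []),
    (0, 29, 3, [0,0,4]),
    (2, 28, 3, [0,0,5,5,5,5]),
    (0, 25, 5, [1]),
    (2, 24, 2, [1,5,5]),
    (1, 25, 5, []),
    (0, 22, 3, [0]),
    (2, 18, 5, [0,5,5]),
    (0, 16, 3, [4]),
    (0, 12, 3, [0]),
    (2, 11, 2, [0,5,5,5]),
    (0, 9, 3, [1]),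
    (2, 5, 5, [1,5,5,5]),
    (1, 6, 5, []),
    (0, 3, 3, [0,0,4]),
    (2, 2, 3, [0,0,5,5,5,5]),
    (0, 1, 3, [0,0,4]),
    (2, 0, 3, [0,0,5,5,5,5]),
    (0, 11, 1, [0,4,0]),
    (2, 13, 3, [5,5,5,5,0]),
    (2, 8, 4, [0,5,5,5,5]),
    (1, 9, 9, [4,5,4]),
    (0, 11, 3, [1]),
    (2, 10, 2, [1,5,5]),
    (1, 11, 5, []),
    (0, 8, 4, [0,0]),
    (2, 7, 3, [0,0,5,5,5,5]),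
    (1, 9, 5, []),
    (0, 6, 4, [0,0]),
    (2, 2, 6, [0,0,5]),
    (1, 4, 5, []),
    (0, 0, 4, [])]

def c3 : List (Nat × Nat × Nat × List Nat) :=
  [(0, 63, 4, [0,0,4,2,0,2]),
    (2, 62, 3, [0,0,5,5,5,5]),
    (0, 60, 4, []),
    (1, 56, 5, []),
    (2, 51, 4, [3,0,3,5,5,5]),
    (0, 49, 5, [3,0,3]),
    (2, 48, 4, [3,0,3,5,5,5]),
    (1, 51, 5, []),
    (0, 47, 4, [3,0,3,3,1,3,4,2,0,2]),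
    (2, 43, 10, [3,0,3,3,1,3,5,5,5,5]),
    (0, 39, 10, [3,0,3,3,0,3,4,2,0,2]),
    (2, 38, 7, [3,0,3,3,0,3,5,5,5,5]),
    (0, 36, 8, [3,0,3,3,1,3]),
    (2, 32, 10, [3,0,3,3,1,3,5,5,5,5]),
    (1, 38, 5, []),
    (0, 28, 10, [3,0,3,3,0,3,3,1,3,4]),
    (2, 27, 10, [3,0,3,3,0,3,3,1,3,5,5,5]),
    (0, 25, 11, [3,0,3,3,0,3,3,1,3]),
    (2, 24, 10, [3,0,3,3,0,3,3,1,3,5,5,5]),
    (1, 33, 5, []),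
    (0, 23, 10, [3,0,3,3,0,3,3,0,3,3,0,3,4,2,0,2]),
    (2, 19, 16, [3,0,3,3,0,3,3,0,3,3,0,3,5,5,5,5]),
    (0, 15, 16, [3,0,3,3,0,3,3,0,3,3,1,3,4,2,0,2]),
    (2, 14, 13, [3,0,3,3,0,3,3,0,3,3,1,3,5,5,5,5]),
    (0, 12, 14, [3,0,3,3,0,3,3,0,3,3,0,3]),
    (2, 8, 16, [3,0,3,3,0,3,3,0,3,3,0,3,5,5,5,5]),
    (1, 20, 5, []),
    (0, 4, 16, [2,0,2,2,0,2,2,0,2,2,0,2,2,0,2,4]),
    (2, 3, 16, [2,0,2,2,0,2,2,0,2,2,0,2,2,0,2,5,5,5]),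
    (0, 1, 17, [2,0,2,2,0,2,2,0,2,2,0,2,2,0,2]),
    (2, 0, 16, [2,0,2,2,0,2,2,0,2,2,0,2,2,0,2,5,5,5]),
    (1, 15, 5, []),
    (1, 15, 0, [5,5,5,5,5]),
    (0, 21, 1, [0,4,0]),
    (2, 23, 4, [5,0]),
    (2, 19, 3, [0,5]),
    (1, 20, 3, [4,5,5,5,5,4]),
    (0, 25, 6, [0,2,1,2]),
    (2, 21, 8, [0,2,1,2,5,5,5,5]),
    (1, 25, 5, []),
    (0, 19, 6, [0,0,4,2,0,2]),
    (2, 15, 6, [0,0,5]),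
    (0, 0, 17, [2,0,2,2,0,2,2,0,2,2,0,2,2,1,2]),
    (2, 17, 6, [5,2,0,2]),
    (1, 15, 3, [4,5,5,5,5,4]),
    (0, 20, 8, [2,1,2,4,2,0,2,4]),
    (2, 16, 7, [2,1,2,5,5,5]),
    (0, 0, 19, [2,0,2,2,0,2,2,0,2,2,0,2,2,0,2,4,2,0,2]),
    (1, 27, 0, [5,5,5,5,5]),
    (0, 33, 1, [0,4,0]),
    (2, 35, 4, [5,0]),
    (2, 31, 3, [0,5]),
    (1, 32, 3, [4,5,5,5,5,4]),
    (0, 37, 6, [0,2,1,2]),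
    (2, 33, 8, [0,2,1,2,5,5,5,5]),
    (1, 37, 5, []),
    (0, 31, 6, [0,0,4,2,0,2]),
    (2, 27, 6, [0,0,5]),
    (0, 22, 7, [0,0,4,2,0,2,4]),
    (2, 19, 5, [0,0,5,5]),
    (0, 0, 21, [2,0,2,2,0,2,2,0,2,2,0,2,2,1,2,4,2,0,2]),
    (2, 28, 6, [5,2,0,2]),
    (1, 26, 3, [4,5,5,5,5,4]),
    (0, 31, 8, [2,1,2,4,2,0,2,4]),
    (2, 27, 7, [2,1,2,5,5,5]),
    (0, 21, 9, [2,0,2,2,1,2,4]),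
    (2, 19, 8, [2,0,2,2,1,2,5,5]),
    (0, 0, 25, [3,0,3,3,0,3,3,0,3,4,2,0,2]),
    (0, 15, 1, [0,4,0]),
    (2, 17, 4, [5,0]),
    (2, 13, 3, [0,5]),
    (1, 14, 3, [4,5,5,5,5,4]),
    (0, 19, 7, [0,2,1,2,4]),
    (2, 15, 8, [0,2,1,2,5,5,5,5]),
    (0, 0, 19, [3,0,3,3,1,3,4,2,0,2,4]),
    (1, 14, 3, [4,5,5,5,5,4]),
    (0, 19, 2, []),
    (1, 15, 5, []),
    (0, 14, 1, [0,4,0]),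
    (2, 16, 3, [5,5,5,5,0]),
    (2, 11, 4, [0,5,5,5,5]),
    (1, 12, 9, [4,5,4]),
    (0, 14, 6, [0,2,1,2]),
    (2, 13, 5, [0,2,1,2,5]),
    (1, 17, 5, []),
    (0, 0, 18, [])]

def p10 : List (Nat × Nat × Nat × List Nat) :=
  [(1, 10, 5, []),
    (2, 11, 6, [0,0,5]),
    (0, 9, 4, [0,0]),
    (2, 8, 3, [0,0,5,5,5,5]),
    (1, 10, 5, []),
    (0, 6, 4, []),
    (1, 2, 5, []),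
    (0, 1, 2, []),
    (1, 0, 5, [])]

def p20 : List (Nat × Nat × Nat × List Nat) :=
  [(1, 19, 5, []),
    (2, 29, 2, [0,5,5,5]),
    (0, 27, 3, [1]),
    (2, 23, 5, [1,5,5,5]),
    (1, 24, 5, []),
    (0, 21, 3, [0,0,4]),
    (2, 20, 3, [0,0,5,5,5,5]),
    (0, 18, 4, [0,0]),
    (2, 14, 6, [0,0,5]),
    (1, 16, 5, []),
    (0, 12, 5, [1]),
    (2, 11, 2, [1,5,5]),
    (0, 9, 3, [0]),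
    (2, 5, 5, [0,5,5]),
    (1, 6, 5, []),
    (0, 3, 4, []),
    (1, 2, 5, []),
    (0, 1, 2, []),
    (1, 0, 5, [])]

def p21 : List (Nat × Nat × Nat × List Nat) :=
  [(1, 14, 5, []),
    (1, 36, 5, []),
    (2, 37, 6, [0,0,5]),
    (0, 34, 5, [1]),
    (2, 33, 2, [1,5,5]),
    (0, 31, 3, [0]),
    (2, 27, 5, [0,5,5]),
    (1, 28, 5, []),
    (0, 25, 3, [4]),
    (2, 15, 6, [0,0,5]),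
    (0, 12, 5, [1]),
    (2, 11, 2, [1,5,5]),
    (1, 12, 5, []),
    (0, 9, 4, [0,4]),
    (2, 5, 5, [0,5,5]),
    (0, 3, 3, [4]),
    (1, 0, 3, [4,5,5,5,5,4]),
    (0, 5, 2, []),
    (1, 1, 5, []),
    (1, 1, 3, [4,5,5,5,5,4]),
    (0, 6, 2, []),
    (1, 2, 5, []),
    (0, 0, 2, [])]

def p30 : List (Nat × Nat × Nat × List Nat) :=
  [(1, 25, 5, []),
    (0, 47, 2, []),
    (1, 43, 5, []),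
    (0, 39, 4, [0,0,4,2,0,2]),
    (2, 38, 3, [0,0,5,5,5,5]),
    (0, 36, 4, []),
    (1, 32, 5, []),
    (2, 27, 4, [3,0,3,5,5,5]),
    (0, 23, 7, [3,0,3]),
    (2, 19, 7, [3,0,3,5,5]),
    (1, 22, 5, []),
    (0, 15, 8, []),
    (2, 8, 6, [0,0,5]),
    (1, 10, 5, []),
    (0, 4, 10, []),
    (0, 1, 2, []),
    (1, 0, 5, [])]

def p43 : List (Nat × Nat × Nat × List Nat) :=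
  [(0, 103, 4, [0,0,4,2,0,2]),
    (2, 102, 3, [0,0,5,5,5,5]),
    (0, 100, 4, []),
    (1, 96, 5, []),
    (2, 91, 4, [3,0,3,5,5,5]),
    (0, 89, 5, [3,0,3]),
    (2, 88, 4, [3,0,3,5,5,5]),
    (1, 91, 5, []),
    (0, 86, 5, [3]),
    (2, 82, 5, [3,5,5,5,5]),
    (1, 83, 5, []),
    (0, 75, 9, [1,4,2,4,0,2,4]),
    (2, 74, 2, [1,5,5]),
    (0, 72, 3, [0]),
    (2, 68, 5, [0,5,5]),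
    (0, 61, 8, [3,3,0,4,3,4]),
    (2, 60, 4, [3,3,0,5,5,5]),
    (0, 57, 6, [3,0,3,3,0,3,4,2]),
    (2, 56, 7, [3,0,3,3,0,3,5,5,5,5]),
    (0, 55, 7, [3,0,3,3,0,3,4]),
    (2, 51, 10, [3,0,3,3,0,3,5]),
    (0, 47, 10, [3,0,3,3,1,3,4,2,0,2]),
    (2, 46, 7, [3,0,3,3,1,3,5]),
    (0, 44, 8, [3,0,3,3,0,3]),
    (2, 40, 10, [3,0,3,3,0,3,5]),
    (0, 36, 10, [3,0,3,3,0,3,3,0,3,4]),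
    (2, 35, 10, [3,0,3,3,0,3,3,0,3,5,5]),
    (0, 33, 11, [3,0,3,3,0,3,3,0,3]),
    (2, 32, 10, [3,0,3,3,0,3,3,0,3,5,5]),
    (0, 30, 11, [3,3,0,3,3,0,3]),
    (2, 26, 11, [3,3,0,3,3,0,3,5]),
    (1, 33, 5, []),
    (0, 19, 15, [0,2,2,0,2,0,2,1,4,2,4,0,2,4,0]),
    (2, 18, 9, [0,2,2,0,2,0,2,1,5,5,5,5]),
    (0, 16, 10, [0,2,2,0,2,0,2,0]),
    (2, 12, 12, [0,2,2,0,2,0,2,0,5,5,5,5]),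
    (1, 20, 5, []),
    (0, 5, 15, [3,3,0,3,3,0,3,0,3,0,4,3,4]),
    (2, 4, 11, [3,3,0,3,3,0,3,0,3,0,5]),
    (0, 1, 13, [3,0,3,3,0,3,3,0,3,0,3,1,3,4,2]),
    (2, 0, 14, [3,0,3,3,0,3,3,0,3,0,3,1,3,5,5]),
    (1, 37, 0, [5,5,5,5,5]),
    (1, 39, 9, [4,5,4]),
    (0, 41, 3, [2]),
    (2, 40, 2, [2,5]),
    (1, 31, 0, [5,5,5,5,5]),
    (0, 24, 7, [0,3,0,2,0,2,2,0,2,0,2,2,0,3,3,0,3,0,2,0,2,2,0,2,0,4,0,2,2,2,0,3,0,3,3,0,3,0]),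
    (2, 50, 15, [5,0,2,2,2,0,3,0,3,3,0,3,0]),
    (2, 21, 28, [0,3,0,2,0,2,2,0,2,0,2,2,0,3,3,0,3,0,2,0,2,2,0,2,0,5]),
    (1, 46, 3, [4,5,5,5,5,4]),
    (0, 51, 13, [0,3,0,3,3,0,3,0,2,0,2,2,0,3,3,0,3,0,3,3,0,3,0,2,1,4,2,4,0,2,4,0]),
    (2, 47, 29, [0,3,0,3,3,0,3,0,2,0,2,2,0,3,3,0,3,0,3,3,0,3,0,2,1,5,5]),
    (0, 18, 54, [3,3,0,2,2,0,2,0,2,0,3,0,3,0,3,3,0,2,4,2,4,3,4]),
    (2, 17, 19, [3,3,0,2,2,0,2,0,2,0,3,0,3,0,3,3,0,2,5,5]),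
    (0, 15, 20, [3,0,2,2,0,2,0,2,0,3,0,3,0,3,3,1,2,4]),
    (2, 13, 19, [3,0,2,2,0,2,0,2,0,3,0,3,0,3,3,1,2,5]),
    (0, 0, 30, [0,2,0,3,0,2,2,0,2,0,2,2,0,3,3,0,3,0,2,0,2,1]),
    (2, 45, 5, [5,5,5,5,2,0,2]),
    (1, 40, 9, [4,5,4]),
    (0, 33, 8, [0,0,4,2,4,0,2,0]),
    (2, 31, 4, [0,0,5,5,5]),
    (0, 26, 7, [0,0,4,2,4,3,4]),
    (2, 24, 4, [0,0,5,5,5]),
    (0, 23, 3, [0,0,4]),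
    (2, 22, 3, [0,0,5,5,5,5]),
    (0, 0, 24, [0,2,0,3,0,2,2,0,2,0,2,2,0,3,3,0,3,0,2,0,2,0]),
    (0, 62, 6, [0,3,0,2,0,2,2,0,2,0,2,2,0,3,3,0,3,0,2,0,2,2,0,2,4,2,2,2,0,3,0,3,3,0,3]),
    (2, 87, 12, [5,2,2,2,0,3,0,3,3,0,3]),
    (2, 58, 28, [0,3,0,2,0,2,2,0,2,0,2,2,0,3,3,0,3,0,2,0,2,2,0,2,5]),
    (1, 82, 3, [4,5,5,5,5,4]),
    (0, 87, 11, [3,0,3,3,0,3,0,2,0,2,2,0,3,3,0,3,0,3,3,0,3,0,2,0,4,2,4,0,2,4]),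
    (2, 83, 28, [3,0,3,3,0,3,0,2,0,2,2,0,3,3,0,3,0,3,3,0,3,0,2,0,5]),
    (0, 55, 52, [3,3,0,2,2,0,2,0,2,0,3,0,3,0,3,3,1,2,4,2,4,3,4]),
    (2, 51, 22, [3,3,0,2,2,0,2,0,2,0,3,0,3,0,3,3,1,2,5,5]),
    (0, 45, 24, [0,3,0,2,0,2,2,0,2,0,3,3,0,3,3,0,2,0,2,2,1,4,2,4,3]),
    (2, 44, 22, [0,3,0,2,0,2,2,0,2,0,3,3,0,3,3,0,2,0,2,2,1,5,5]),
    (0, 38, 27, [2,2,0,2,2,0,2,0,3,3,0,3,3,0,2,0,2,2,1,2,4,2,4,3,3]),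
    (2, 35, 23, [2,2,0,2,2,0,2,0,3,3,0,3,3,0,2,0,2,2,1,2,5,5,5,5]),
    (0, 30, 25, [2,2,0,2,2,0,2,0,3,3,0,3,3,0,2,0,2,2,0,2,4,2,4,3,4]),
    (2, 27, 23, [2,2,0,2,2,0,2,0,3,3,0,3,3,0,2,0,2,2,0,2,5]),
    (0, 26, 21, [2,2,0,2,2,0,2,0,3,3,0,3,3,0,2,0,2,2,1,2,4]),
    (2, 22, 24, [2,2,0,2,2,0,2,0,3,3,0,3,3,0,2,0,2,2,1,2,5,5]),
    (0, 0, 42, [3,0,2,2,0,3,0,3,3,0,2,2,0,2,0,2,2,0,3,3,0,3,1,3]),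
    (0, 50, 5, [2,2,0,2,0,3,3,0,3,0,2,2,0,3,0,3,3,1,4,2,2,0,2,0,3,0,3,0,2,2]),
    (2, 69, 12, [5,2,2,0,2,0,3,0,3,0,2,2]),
    (2, 48, 20, [2,2,0,2,0,3,3,0,3,0,2,2,0,3,0,3,3,1,5]),
    (1, 66, 3, [4,5,5,5,5,4]),
    (0, 71, 18, [0,2,2,0,2,0,3,3,0,2,0,2,2,0,3,0,3,3,4,2,0,2,4]),
    (2, 67, 22, [0,2,2,0,2,0,3,3,0,2,0,2,2,0,3,0,3,3,5,5,5]),
    (0, 44, 41, [0,2,2,0,2,0,2,2,0,3,3,0,3,0,3,3,0,2,2,0,2,0,2,4]),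
    (2, 42, 25, [0,2,2,0,2,0,2,2,0,3,3,0,3,0,3,3,0,2,2,0,2,0,2,5]),
    (0, 37, 28, [2,2,2,0,2,0,2,0,3,0,3,0,3,0,2,0,2,0,2,1,3,4,2,0,2,4]),
    (2, 33, 25, [2,2,2,0,2,0,2,0,3,0,3,0,3,0,2,0,2,0,2,1,3,5,5,5]),
    (0, 28, 26, [3,0,2,2,0,2,0,2,2,0,3,3,0,3,0,3,3,0,2,2,1,4]),
    (2, 27, 22, [3,0,2,2,0,2,0,2,2,0,3,3,0,3,0,3,3,0,2,2,1,5,5,5,5]),
    (0, 26, 22, [0,2,0,3,3,0,2,2,0,2,0,3,3,0,2,0,2,2,0,2,2,1,3,4,2,0,2]),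
    (2, 24, 25, [0,2,0,3,3,0,2,2,0,2,0,3,3,0,2,0,2,2,0,2,2,1,3,5,5,5,5]),
    (0, 0, 47, [3,0,3,3,0,3,3,0,3,3,1,3]),
    (0, 24, 1, [0,4,0]),
    (2, 26, 4, [5,0]),
    (2, 22, 3, [0,5]),
    (1, 23, 3, [4,5,5,5,5,4]),
    (0, 28, 7, [0,2,1,2,4]),
    (2, 24, 8, [0,2,1,2,5,5,5,5]),
    (0, 22, 6, [0,0,4,2,0,2]),
    (2, 20, 4, [0,0,5,5,5]),
    (0, 16, 6, [0,0,4,2,0,2]),
    (2, 12, 6, [0,0,5]),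
    (0, 0, 14, [3,0,3,3,0,3,3,0,3,3,0,3]),
    (1, 27, 3, [4,5,5,5,5,4]),
    (0, 32, 2, []),
    (1, 28, 5, []),
    (0, 27, 1, [0,4,0]),
    (2, 29, 3, [5,5,5,5,0]),
    (2, 24, 4, [0,5,5,5,5]),
    (1, 25, 9, [4,5,4]),
    (0, 27, 7, [0,2,1,2,4]),
    (2, 26, 5, [0,2,1,2,5]),
    (0, 20, 10, [2,0,2,4,2,0,2,4]),
    (2, 17, 6, [2,0,2,5,5,5,5]),
    (0, 13, 7, [2,0,2,2,0,2,4]),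
    (2, 12, 7, [2,0,2,2,0,2,5,5,5,5]),
    (0, 0, 18, [3,0,3,3,0,3]),
    (1, 20, 3, [4,5,5,5,5,4]),
    (0, 25, 5, [2,0,2]),
    (2, 21, 7, [2,0,2,5,5]),
    (1, 24, 5, []),
    (0, 15, 9, [2,0,2,2,0,2,4]),
    (2, 11, 10, [2,0,2,2,0,2,5]),
    (0, 10, 7, [2,0,2,2,0,2,4]),
    (2, 6, 10, [2,0,2,2,0,2,5]),
    (0, 0, 12, []),
    (1, 0, 3, [4,5,5,5,5,4]),
    (0, 5, 2, []),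
    (1, 1, 5, []),
    (0, 0, 2, [])]

def p31 : List (Nat × Nat × Nat × List Nat) :=
  [(2, 59, 6, [0,0,5]),
    (0, 58, 3, [0,0,4]),
    (2, 57, 3, [0,0,5,5,5,5]),
    (0, 56, 3, [0,0,4]),
    (2, 52, 6, [0,0,5]),
    (0, 48, 6, [4,2,0,2]),
    (2, 41, 6, [0,0,5]),
    (0, 37, 6, [3,1,3,4]),
    (2, 36, 4, [3,1,3,5,5]),
    (0, 34, 5, [3,1,3]),
    (2, 32, 5, [3,1,3,5,5,5,5]),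
    (1, 35, 5, []),
    (0, 30, 5, [3,0,3]),
    (2, 26, 7, [3,0,3,5,5]),
    (0, 25, 4, [3,0,3,3,1,3,4,2,0,2]),
    (2, 24, 7, [3,0,3,3,1,3,5]),
    (0, 23, 7, [3,0,3,3,1,3,4]),
    (2, 19, 10, [3,0,3,3,1,3,5,5,5,5]),
    (0, 15, 10, [3,0,3,3,0,3,4,2,0,2]),
    (2, 14, 7, [3,0,3,3,0,3,5,5,5,5]),
    (0, 12, 8, [3,0,3,3,1,3]),
    (2, 8, 10, [3,0,3,3,1,3,5,5,5,5]),
    (1, 14, 5, []),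
    (0, 4, 10, [3,0,3,3,0,3,3,1,3,4]),
    (2, 3, 10, [3,0,3,3,0,3,3,1,3,5,5,5]),
    (0, 1, 11, [3,0,3,3,0,3,3,1,3]),
    (2, 0, 10, [3,0,3,3,0,3,3,1,3,5,5,5]),
    (1, 9, 5, []),
    (1, 21, 3, [4,5,5,5,5,4]),
    (0, 26, 5, [2,0,2]),
    (2, 22, 7, [2,0,2,5,5]),
    (1, 25, 5, []),
    (5, 11, 0, []),
    (2, 28, 11, [3,0,3,3,0,3,3,1,3,5]),
    (0, 27, 10, [3,0,3,3,0,3,3,0,3,3,0,3,4,2,0,2]),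
    (2, 23, 16, [3,0,3,3,0,3,3,0,3,3,0,3,5,5,5,5]),
    (0, 22, 13, [3,0,3,3,0,3,3,0,3,3,0,3,4]),
    (2, 21, 13, [3,0,3,3,0,3,3,0,3,3,0,3,5]),
    (0, 17, 16, [3,0,3,3,0,3,3,0,3,3,0,3,4,2,0,2]),
    (2, 15, 14, [3,0,3,3,0,3,3,0,3,3,0,3,5,5]),
    (0, 10, 17, [3,0,3,3,0,3,3,0,3,3,0,3,4,2,0,2,4]),
    (2, 7, 15, [3,0,3,3,0,3,3,0,3,3,0,3,5,5,5]),
    (0, 3, 16, [3,0,3,3,0,3,3,0,3,3,0,3,4,2,0,2]),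
    (2, 0, 15, [3,0,3,3,0,3,3,0,3,3,0,3,5,5,5]),
    (1, 33, 0, [5,5,5,5,5]),
    (1, 35, 9, [4,5,4]),
    (0, 37, 5, [2,0,2]),
    (2, 36, 4, [2,0,2,5,5,5]),
    (1, 39, 5, []),
    (5, 19, 0, []),
    (0, 0, 0, [1,3,3,3,2,2,2,0]),
    (2, 4, 7, [5,2,2,2,0]),
    (1, 4, 1, [4,5,5,5,5,4,5,5,5,5,4]),
    (0, 14, 10, [2,0,2,0,2,0,3,0,2,2,0,3,0,2,2,1,3,3,4,2,2,2,0,2,0,2]),
    (2, 10, 22, [2,0,2,0,2,0,3,0,2,2,0,3,0,2,2,1,3,3,5,5]),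
    (0, 9, 19, [2,0,2,0,2,0,3,0,2,2,0,3,0,2,2,0,2,4,2,2,2]),
    (2, 5, 21, [2,0,2,0,2,0,3,0,2,2,0,3,0,2,2,0,2,5,5,5]),
    (0, 0, 22, [2,0,2,0,2,0,3,3,0,3,3,0,2,0,2,0,2,0,4]),
    (0, 28, 8, [0,4,0,2,2,2,0,2,0,2]),
    (2, 30, 10, [5,0,2,2,2,0,2,0,2]),
    (2, 26, 3, [0,5]),
    (1, 27, 3, [4,5,5,5,5,4]),
    (0, 32, 13, [0,2,0,2,2,0,2,0,2,0,2,2,0,3,3,0,3,0,3,3,0,3,3,1,4,3,4,0,3]),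
    (2, 28, 28, [0,2,0,2,2,0,2,0,2,0,2,2,0,3,3,0,3,0,3,3,0,3,3,1,5,5,5,5]),
    (0, 22, 30, [0,3,3,0,2,0,2,0,2,2,2,0,3,3,0,3,3,1,4,3,4,2,2]),
    (2, 19, 21, [0,3,3,0,2,0,2,0,2,2,2,0,3,3,0,3,3,1,5,5,5,5]),
    (0, 0, 37, [0,3,0,3,0,3,0,2,2,0,2,0,2,0,3,0,3,4,3,0]),
    (0, 20, 0, [1,3,3,1,0,2,2,0]),
    (2, 24, 8, [5,0,2,2,0]),
    (1, 24, 1, [4,5,5,5,5,4,5,5,5,5,4]),
    (0, 34, 10, [0,2,2,0,3,3,0,2,2,0,2,2,0,3,0,3,0,3,0,2,0,4,2,2,4,0,3,4]),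
    (2, 30, 25, [0,2,2,0,3,3,0,2,2,0,2,2,0,3,0,3,0,3,0,2,0,5,5]),
    (0, 29, 22, [0,2,2,0,3,3,0,3,3,0,3,0,3,0,2,2,1,4,2,2,2,0,2,0]),
    (2, 25, 21, [0,2,2,0,3,3,0,3,3,0,3,0,3,0,2,2,1,5,5]),
    (0, 0, 42, [0,2,2,2,0,3,0,3,0,2,0,2,2,0,2,2,1,2,4,2,2,2,4,0]),
    (0, 0, 24, [2,2,0,3,0,3,0,2,0,3,3,0,2,1,3,4,2,0,2,4,3,0,2,0,2,2,0,2,2,0,2,2,0,2,1,2,2]),
    (2, 20, 19, [5,5,3,0,2,0,2,2,0,2,2,0,2,2,0,2,1,2,2]),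
    (0, 22, 24, [4,2,2,2,4,2,1,2,2,1,2,1,3,3,3,4,3,0,2,0,2,2,0,2,0,2,2,1,2]),
    (2, 38, 15, [5,3,0,2,0,2,2,0,2,0,2,2,1,2]),
    (0, 39, 20, [4,2,0,3,3,0,3,0,2,2,0,3,0,3,3,0,3,0,2,2,1,3,3]),
    (2, 40, 26, [5,2,0,3,3,0,3,0,2,2,0,3,0,3,3,0,3,0,2,2,1,3,3]),
    (0, 41, 27, [4,2,2,2,0,3,0,3,3,0,3,4,2,2,2]),
    (1, 37, 5, [5,5,5,5]),
    (2, 37, 14, [2,2,2,0,3,0,3,3,0,3,5,5,5]),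
    (0, 27, 20, []),
    (0, 0, 20, [2,2,0,3,0,3,0,2,0,3,3,0,2,0,3,4,2,0,2,4,0,0]),
    (2, 20, 4, [5,5,5,0,0]),
    (0, 23, 7, [4,2,2,2,0,4,1]),
    (2, 29, 4, [5,5,5,5,1]),
    (0, 33, 5, [4,0,2,2,2]),
    (1, 28, 6, [5,4,5]),
    (2, 27, 2, [5,5,0]),
    (2, 31, 5, [0,2,2,2,5,5,5]),
    (0, 29, 6, [4,2,2,2]),
    (0, 0, 20, [2,0,2,4,2,1,3,3,4,2,0,2,0,2,0,3,0,2,2,0,3,0,2,2,0,2]),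
    (2, 9, 20, [5,5,5,5,2,0,2,0,2,0,3,0,2,2,0,3,0,2,2,0,2]),
    (0, 13, 21, [4,2,0,2,0,2,0,3,0,2,2,0,3,0,2,2,1,3,3]),
    (2, 14, 20, [5,5,5,5,2,0,2,0,2,0,3,0,2,2,0,3,0,2,2,1,3,3]),
    (0, 18, 22, [4,2,2,0,3,4,2,0,2,4]),
    (1, 8, 11, [5]),
    (2, 8, 5, [2,2,0,3,5,5,5]),
    (0, 4, 8, []),
    (0, 0, 4, [3,1,3,4,2,0,2,2,0,2]),
    (2, 4, 9, [5,5,2,0,2,2,0,2]),
    (0, 6, 11, [2,1,2,2,1,2,2,1,2,2,1,2,4,3,1,3,4]),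
    (1, 23, 0, [5,5,5,5,5]),
    (1, 4, 0, [5,5,5,5,5]),
    (1, 4, 0, [5,5,5,5,5]),
    (1, 4, 5, []),
    (1, 4, 5, []),
    (1, 23, 5, []),
    (1, 23, 5, []),
    (0, 6, 34, []),
    (1, 4, 5, []),
    (0, 0, 8, [])]

def q3 : List (Nat × Nat × Nat × List Nat) :=
  [(0, 45, 4, [0,0,4,2,0,2]),
    (2, 44, 3, [0,0,5,5,5,5]),
    (0, 42, 4, []),
    (1, 38, 5, []),
    (2, 33, 4, [3,0,3,5,5,5]),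
    (0, 31, 5, [3,0,3]),
    (2, 30, 4, [3,0,3,5,5,5]),
    (1, 33, 5, []),
    (0, 26, 7, [3,1,3]),
    (2, 22, 7, [3,1,3,5,5,5]),
    (0, 18, 7, [0,0,4]),
    (2, 17, 3, [0,0,5,5,5,5]),
    (0, 15, 4, []),
    (1, 11, 5, []),
    (2, 6, 4, [3,0,3,5,5,5]),
    (0, 4, 5, [3,0,3]),
    (2, 3, 4, [3,0,3,5,5,5]),
    (1, 6, 5, []),
    (0, 0, 6, [3,0,3,3,0,3,4,2,0,2]),
    (1, 10, 0, [5,5,5,5,5]),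
    (0, 16, 1, [0,4,0]),
    (2, 18, 4, [5,0]),
    (2, 14, 3, [0,5]),
    (1, 15, 3, [4,5,5,5,5,4]),
    (0, 20, 3, [1]),
    (2, 16, 5, [1,5,5,5]),
    (1, 17, 5, []),
    (0, 14, 3, [0,0,4]),
    (2, 10, 6, [0,0,5]),
    (0, 0, 12, [3,0,3,3,1,3,4,2,0,2]),
    (1, 10, 0, [5,5,5,5,5]),
    (0, 16, 1, [0,4,0]),
    (2, 18, 3, [5,5,5,5,0]),
    (2, 13, 4, [0,5,5,5,5]),
    (1, 14, 9, [4,5,4]),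
    (0, 16, 3, [1]),
    (2, 15, 2, [1,5,5]),
    (1, 16, 5, []),
    (0, 13, 7, [2,1,2]),
    (2, 10, 6, [2,1,2,5]),
    (1, 13, 5, []),
    (0, 0, 14, [])]

def q2 : List (Nat × Nat × Nat × List Nat) :=
  [(2, 26, 6, [0,0,5]),
    (0, 25, 3, [0,0,4]),
    (2, 24, 3, [0,0,5,5,5,5]),
    (0, 21, 5, [4]),
    (2, 14, 2, [0,5,5,5]),
    (0, 12, 3, [1]),
    (2, 8, 5, [1,5,5,5]),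
    (1, 9, 5, []),
    (0, 6, 3, [0,0,4]),
    (2, 5, 3, [0,0,5,5,5,5]),
    (0, 4, 3, [0,0,4]),
    (2, 3, 3, [0,0,5,5,5,5]),
    (0, 0, 5, [4]),
    (1, 11, 0, [5,5,5,5,5]),
    (1, 13, 9, [4,5,4]),
    (0, 15, 2, []),
    (1, 14, 5, []),
    (0, 13, 2, []),
    (1, 1, 9, [4,5,4]),
    (0, 3, 2, []),
    (1, 2, 5, []),
    (0, 0, 2, [])]

/-- The certificates of the two permutations. -/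
def conjA : List (List (Nat × Nat × Nat × List Nat)) := [a0, a1, a2, a3, a4, a5, a6, a7, a8, a9]
/-- The certificates of the second permutation. -/
def conjB : List (List (Nat × Nat × Nat × List Nat)) := [b0, b1, b2, b3, b4, b5, b6, b7, b8, b9]

end CfsgLib.HNTwelve.Cert
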