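import Cfsg.Agent.BPres.Carmichael
import Cfsg.Prelude.Def_Sporadic
import Mathlib.GroupTheory.GroupAction.Quotient
import Mathlib.GroupTheory.SpecificGroups.Alternating.Simple

/-!
Ten elements with Carmichael's relations in a simple group of the order of `HN` give a transitive
action on 1140000 points with point stabiliser `A₁₂`.
-/

set_option autoImplicit false

namespace CfsgLib.HNTwelve

open CfsgLib.BPres

/-- A subgroup `A₁₂` from elements with Carmichael's relations. -/
theorem exists_alt_subgroup {G : Type*} [Group G] (z : Fin 12 → G)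
    (h3 : ∀ i, i ≠ 0 → i ≠ 1 → z i ^ 3 = 1)
    (h2 : ∀ i j, i ≠ 0 → i ≠ 1 → j ≠ 0 → j ≠ 1 → i ≠ j → (z i * z j) ^ 2 = 1)
    (hne : z 2 ≠ 1) :
    ∃ K : Subgroup G, Nonempty (↥K ≃* alternatingGroup (Fin 12)) := by
  obtain ⟨φ, hφ⟩ := carmichael (a := (0 : Fin 12)) (b := 1) (by decide) z h3 h2
  haveI : IsSimpleGroup (alternatingGroup (Fin 12)) :=
    alternatingGroup.isSimpleGroup (by simp)
  rcases φ.normal_ker.eq_bot_or_eq_top with h | h
  · exact ⟨φ.range, ⟨(φ.ofInjective ((MonoidHom.ker_eq_bot_iff φ).1 h)).symm⟩⟩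
  · exfalso
    apply hne
    rw [← hφ 2 (by decide) (by decide), ← MonoidHom.mem_ker, h]
    trivial

/-- The coset action. -/
theorem exists_perm {G : Type*} [Group G] [IsSimpleGroup G] (hc : Nat.card G = 273030912000000)
    (K : Subgroup G) (e : ↥K ≃* alternatingGroup (Fin 12)) :
    ∃ H : Subgroup (Equiv.Perm (Fin 1140000)), Cfsg.IsHN H ∧ MulAction.IsPretransitive H (Fin 1140000) ∧
      Nonempty (MulAction.stabilizer H (0 : Fin 1140000) ≃* alternatingGroup (Fin 12)) := by
  classical
  haveI : Finite G := Nat.finite_of_card_ne_zero (by rw [hc]; norm_num)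
  have hK : Nat.card K = 239500800 := by
    have h2 := two_mul_nat_card_alternatingGroup (α := Fin 12)
    have hf : Nat.factorial 12 = 479001600 := by decide
    rw [Nat.card_perm, Nat.card_fin, hf] at h2
    have := Nat.card_congr e.toEquiv
    omega
  have hidx : K.index = 1140000 := by
    have h := K.card_mul_index
    rw [hc, hK] at h
    omega
  have hQ : Nat.card (G ⧸ K) = 1140000 := hidx
  let c0 : G ⧸ K ≃ Fin 1140000 := Finite.equivFinOfCardEq hQ
  let c : G ⧸ K ≃ Fin 1140000 := c0.trans (Equiv.swap (c0 (QuotientGroup.mk 1)) 0)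
  have hc1 : c (QuotientGroup.mk 1) = 0 := Equiv.swap_apply_left _ _
  let ρ : G →* Equiv.Perm (Fin 1140000) :=
    (Equiv.permCongrHom c).toMonoidHom.comp (MulAction.toPermHom G (G ⧸ K))
  have hρ : ∀ (g : G) (x : G ⧸ K), ρ g (c x) = c (g • x) := fun g x => by
    simp [ρ, Equiv.permCongrHom]
  have hinj : Function.Injective ρ := by
    rcases ρ.normal_ker.eq_bot_or_eq_top with h | h
    · exact (MonoidHom.ker_eq_bot_iff ρ).1 h
    · exfalso
      have htop : K = ⊤ := by
        refine eq_top_iff.2 fun g _ => ?_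
        have hg : ρ g = 1 := by rw [← MonoidHom.mem_ker, h]; trivial
        have h0 := hρ g (QuotientGroup.mk 1)
        rw [hg, Equiv.Perm.one_apply] at h0
        have h2 := c.injective h0
        rw [MulAction.Quotient.smul_mk, smul_eq_mul, mul_one] at h2
        simpa using QuotientGroup.eq.1 h2
      rw [htop] at hidx
      simp at hidx
  let er : G ≃* ρ.range := MonoidHom.ofInjective hinj
  refine ⟨ρ.range, ⟨?_, ?_⟩, ⟨fun a b => ?_⟩, ?_⟩
  · haveI : Nontrivial ρ.range := er.toEquiv.symm.nontrivial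
    exact IsSimpleGroup.isSimpleGroup_of_surjective er.toMonoidHom er.surjective
  · rw [← Nat.card_congr er.toEquiv, hc]
  · obtain ⟨g, hg⟩ := MulAction.exists_smul_eq G (c.symm a) (c.symm b)
    refine ⟨er g, ?_⟩
    show ρ g a = b
    have := hρ g (c.symm a)
    rw [hg, c.apply_symm_apply, c.apply_symm_apply] at this
    exact this
  · refine ⟨((er.subgroupMap K).trans (MulEquiv.subgroupCongr ?_)).symm.trans e⟩
    ext x
    obtain ⟨g, rfl⟩ := er.surjective x
    rw [MulAction.mem_stabilizer_iff]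
    have h0 : er g • (0 : Fin 1140000) = c (g • QuotientGroup.mk 1) := by
      show ρ g 0 = _
      rw [← hc1, hρ]
    rw [h0, ← hc1, c.injective.eq_iff, MulAction.Quotient.smul_mk, smul_eq_mul, mul_one]
    constructor
    · rintro ⟨y, hy, hyg⟩
      rw [QuotientGroup.eq]
      have : y = g := er.injective hyg
      subst this
      simpa using K.inv_mem hy
    · intro h
      rw [QuotientGroup.eq] at h
      exact ⟨g, by simpa using K.inv_mem h, rfl⟩

/-- Everything from the relations. -/
theorem main {G : Type*} [Group G] [IsSimpleGroup G] (hc : Nat.card G = 273030912000000)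
    (z : Fin 12 → G) (h3 : ∀ i, i ≠ 0 → i ≠ 1 → z i ^ 3 = 1)
    (h2 : ∀ i j, i ≠ 0 → i ≠ 1 → j ≠ 0 → j ≠ 1 → i ≠ j → (z i * z j) ^ 2 = 1)
    (hne : z 2 ≠ 1) :
    ∃ H : Subgroup (Equiv.Perm (Fin 1140000)), Cfsg.IsHN H ∧ MulAction.IsPretransitive H (Fin 1140000) ∧
      Nonempty (MulAction.stabilizer H (0 : Fin 1140000) ≃* alternatingGroup (Fin 12)) := by
  obtain ⟨K, ⟨e⟩⟩ := exists_alt_subgroup z h3 h2 hne
  exact exists_perm hc K e

end CfsgLib.HNTwelve
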