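import Cfsg.Agent.Coset.Pres
import Cfsg.Agent.HNTwelve.Embed

/-!
Ten words in `x, x⁻¹, y, y⁻¹, z, t, t⁻¹` that play the part of the cycles `(1 2 i)` of `A₁₂` in `HN`.
-/

set_option autoImplicit false
set_option maxRecDepth 100000

namespace CfsgLib.HNTwelve

open CfsgLib.Coset

/-- The ten words. -/
def words : List (List Nat) :=
  [[4, 6],
  [5, 4, 6, 0, 0, 5],
  [5, 4, 5, 4, 1, 6, 0, 0, 5, 0, 4, 6],
  [5, 4, 4, 5, 3, 0, 3, 4, 6, 0, 0, 5, 4, 2, 1, 2, 6, 4],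
  [5, 4, 3, 0, 5, 3, 3, 4, 1, 3, 4, 1, 6, 0, 0, 5, 0, 4, 2, 0, 4, 2, 2, 6, 1, 2],
  [5, 4, 2, 0, 5, 2, 2, 4, 1, 2, 4, 1, 6, 0, 0, 5, 0, 4, 3, 0, 4, 3, 3, 6, 1, 3],
  [5, 4, 0, 5, 2, 4, 3, 4, 6, 0, 0, 5, 4, 2, 4, 3, 6, 1],
  [5, 4, 4, 5, 2, 0, 3, 3, 4, 6, 0, 0, 5, 4, 2, 2, 1, 3, 6, 4],
  [5, 4, 0, 5, 3, 4, 2, 4, 6, 0, 0, 5, 4, 3, 4, 2, 6, 1],
  [5, 4, 0, 5, 2, 2, 4, 3, 3, 4, 6, 0, 0, 5, 4, 2, 2, 4, 3, 3, 6, 1]]

/-- The word of the `i`th cycle. -/
def cycWord (i : Fin 12) : List Nat := words.getD (i.val - 2) []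

/-- The cubes and the squares of products to be checked. -/
def relWords : List (List Nat) :=
  (List.range 10).map (fun i => words.getD i [] ++ (words.getD i [] ++ words.getD i [])) ++
    ((List.range 10).flatMap fun i => (List.range i).map fun j =>
      (words.getD i [] ++ words.getD j []) ++ (words.getD i [] ++ words.getD j []))

theorem cube_mem : ∀ i : Fin 12, i ≠ 0 → i ≠ 1 →
    cycWord i ++ (cycWord i ++ cycWord i) ∈ relWords := by decide +kernel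

theorem sq_mem : ∀ i j : Fin 12, i ≠ 0 → i ≠ 1 → j ≠ 0 → j ≠ 1 → j < i →
    (cycWord i ++ cycWord j) ++ (cycWord i ++ cycWord j) ∈ relWords := by decide +kernel

/-- The statement from the checked relators. -/
theorem main_of_words {G : Type*} [Group G] [IsSimpleGroup G] (hc : Nat.card G = 273030912000000)
    (L : List G) (hrel : ∀ w ∈ relWords, ev L w = 1) (hne : ev L (cycWord 2) ≠ 1) :
    ∃ H : Subgroup (Equiv.Perm (Fin 1140000)), Cfsg.IsHN H ∧ MulAction.IsPretransitive H (Fin 1140000) ∧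
      Nonempty (MulAction.stabilizer H (0 : Fin 1140000) ≃* alternatingGroup (Fin 12)) := by
  have hsq : ∀ i j : Fin 12, i ≠ 0 → i ≠ 1 → j ≠ 0 → j ≠ 1 → j < i →
      (ev L (cycWord i) * ev L (cycWord j)) ^ 2 = 1 := fun i j hi0 hi1 hj0 hj1 hji => by
    rw [pow_two, ← ev_append, ← ev_append]; exact hrel _ (sq_mem i j hi0 hi1 hj0 hj1 hji)
  refine main hc (fun i => ev L (cycWord i)) (fun i h0 h1 => ?_) (fun i j hi0 hi1 hj0 hj1 hij => ?_) hne
  · show ev L (cycWord i) ^ 3 = 1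
    rw [pow_succ', pow_two, ← ev_append, ← ev_append]; exact hrel _ (cube_mem i h0 h1)
  · show (ev L (cycWord i) * ev L (cycWord j)) ^ 2 = 1
    rcases lt_or_gt_of_ne hij with h | h
    · have h' := hsq j i hj0 hj1 hi0 hi1 h
      rw [pow_two] at h' ⊢
      rw [mul_eq_one_iff_eq_inv, mul_inv_rev] at h' ⊢
      calc ev L (cycWord i) * ev L (cycWord j)
          = (ev L (cycWord j))⁻¹ * (ev L (cycWord j) * ev L (cycWord i)) * ev L (cycWord j) := by
            rw [← mul_assoc, inv_mul_cancel, one_mul]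
        _ = (ev L (cycWord j))⁻¹ * (ev L (cycWord i))⁻¹ := by
            rw [h']; simp [mul_assoc]
    · exact hsq i j hi0 hi1 hj0 hj1 h

end CfsgLib.HNTwelve
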