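import Cfsg.Agent.HNTwelve.Rewrite
import Cfsg.Agent.HNTwelve.CertData
import Cfsg.Agent.HNTwelve.Words

/-!
The ten words satisfy Carmichael's relations in the presented `HN`.

Two words in `x, y` commuting with `z` and `t` permute the ten elements as generators of an `A₇` on
the last seven; the other relations follow from six checked ones and the element `x² z`, which
inverts the last seven and carries the third to the inverse of the second.
-/

set_option autoImplicit false
set_option maxRecDepth 100000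
set_option Elab.async false

namespace CfsgLib.HNTwelve

open CfsgLib.Coset CfsgLib.Coset.HN CfsgLib.Coset.HN.Out

local notation "Gr" => Cfsg.Spor.HN

/-- The seven letters. -/
noncomputable def L7 : List Gr := [gx, gx⁻¹, gy, gy⁻¹, gz, gt, gt⁻¹]

/-- The inverse of a letter. -/
def iv7 (l : Nat) : Nat := [1, 0, 3, 2, 4, 6, 5].getD l l

/-- The inverse of a word. -/
def inv7 (w : List Nat) : List Nat := (w.map iv7).reverse

/-- The six-letter form of a word. -/
def conv6 (w : List Nat) : List Nat := w.flatMap fun l => if l = 6 then [5, 5, 5, 5] else [l]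

theorem ev_conv6 : ∀ w : List Nat, ev L6 (conv6 w) = ev L7 w
  | [] => rfl
  | l :: w => by
    rw [conv6, List.flatMap_cons, ev_append, ev_cons, ← conv6, ev_conv6 w]
    congr 1
    by_cases h : l = 6
    · subst h
      show ev L6 (List.replicate 4 5) = gt⁻¹
      rw [ev_replicate]
      exact eq_inv_of_mul_eq_one_left (by rw [← pow_succ, r_t])
    · rw [if_neg h, ev_cons, ev_nil, mul_one]
      match l, h with
      | 0, _ | 1, _ | 2, _ | 3, _ | 4, _ | 5, _ => rfl
      | n + 7, _ => rw [fl_of_le _ (by simp [L6]), fl_of_le _ (by simp [L7])]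

theorem fl_iv7 : ∀ l, fl L7 (iv7 l) = (fl L7 l)⁻¹
  | 0 => rfl
  | 1 => (inv_inv _).symm
  | 2 => rfl
  | 3 => (inv_inv _).symm
  | 4 => gz_inv.symm
  | 5 => rfl
  | 6 => (inv_inv _).symm
  | n + 7 => by
    rw [show iv7 (n + 7) = n + 7 by simp [iv7], fl_of_le _ (by simp [L7]), inv_one]

theorem ev_inv7 : ∀ w : List Nat, ev L7 (inv7 w) = (ev L7 w)⁻¹
  | [] => by simp [inv7]
  | l :: w => by
    have h : inv7 (l :: w) = inv7 w ++ [iv7 l] := by simp [inv7]
    rw [h, ev_append, ev_inv7 w, ev_cons, ev_cons, ev_nil, mul_one, fl_iv7, mul_inv_rev]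

theorem one_of_check {s : List (Nat × Nat × Nat × List Nat)} {w : List Nat}
    (h : check s (conv6 w) = true) : ev L7 w = 1 := by
  rw [← ev_conv6]; exact check_sound _ _ h

/-- The `k`th element. -/
noncomputable def g (k : Nat) : Gr := ev L7 (words.getD k [])

/-- The two words permuting the elements. -/
def hA : List Nat := [3, 0, 2, 1, 3]
/-- The second word. -/
def hB : List Nat := [3, 3, 0, 2, 2, 1, 3, 3]
/-- The first permutation. -/
def σA : List Nat := [0, 1, 2, 7, 5, 4, 9, 3, 6, 8]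
/-- The second permutation. -/
def σB : List Nat := [0, 1, 2, 3, 7, 8, 4, 5, 6, 9]

/-- The word saying that `h` carries `g k` to `g (σ k)`. -/
def conjW (h σ : List Nat) (k : Nat) : List Nat :=
  inv7 h ++ (words.getD k [] ++ (h ++ inv7 (words.getD (σ.getD k 0) [])))

theorem conj_ok : ∀ k < 10, check (Cert.conjA.getD k []) (conv6 (conjW hA σA k)) = true ∧
    check (Cert.conjB.getD k []) (conv6 (conjW hB σB k)) = true := by
  decide +kernel

theorem conj_eq {h σ : List Nat} {k : Nat} {s : List (Nat × Nat × Nat × List Nat)}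
    (hc : check s (conv6 (conjW h σ k)) = true) :
    g (σ.getD k 0) = (ev L7 h)⁻¹ * g k * ev L7 h := by
  have := one_of_check hc
  rw [conjW, ev_append, ev_append, ev_append, ev_inv7, ev_inv7, ← mul_assoc, ← mul_assoc,
    mul_inv_eq_one] at this
  exact this.symm

/-- The relation of a pair. -/
def Good (p : Nat × Nat) : Prop := p.1 < 10 ∧ p.2 < 10 ∧ (g p.1 * g p.2) ^ 2 = 1

theorem good_swap {p : Nat × Nat} (h : Good p) : Good (p.2, p.1) := by
  obtain ⟨h1, h2, h3⟩ := h
  refine ⟨h2, h1, ?_⟩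
  have e : g p.2 * g p.1 = (g p.1)⁻¹ * (g p.1 * g p.2) * g p.1 := by group
  show (g p.2 * g p.1) ^ 2 = 1
  rw [e, show ((g p.1)⁻¹ * (g p.1 * g p.2) * g p.1) ^ 2 = (g p.1)⁻¹ * (g p.1 * g p.2) ^ 2 * g p.1 by
    simp [pow_two, mul_assoc], h3]
  group

theorem good_conj {h σ : List Nat} (hσ : ∀ k < 10, g (σ.getD k 0) = (ev L7 h)⁻¹ * g k * ev L7 h)
    (hlt : ∀ k < 10, σ.getD k 0 < 10) {p : Nat × Nat} (hp : Good p) :
    Good (σ.getD p.1 0, σ.getD p.2 0) := by
  obtain ⟨h1, h2, h3⟩ := hp
  refine ⟨hlt _ h1, hlt _ h2, ?_⟩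
  show (g (σ.getD p.1 0) * g (σ.getD p.2 0)) ^ 2 = 1
  rw [hσ _ h1, hσ _ h2]
  generalize ev L7 h = e
  rw [show (e⁻¹ * g p.1 * e * (e⁻¹ * g p.2 * e)) ^ 2 = e⁻¹ * (g p.1 * g p.2) ^ 2 * e by
    simp [pow_two, mul_assoc], h3]
  group

theorem hσA : ∀ k < 10, g (σA.getD k 0) = (ev L7 hA)⁻¹ * g k * ev L7 hA := fun k hk =>
  conj_eq (conj_ok k hk).1

theorem hσB : ∀ k < 10, g (σB.getD k 0) = (ev L7 hB)⁻¹ * g k * ev L7 hB := fun k hk =>
  conj_eq (conj_ok k hk).2

/-- One round of closing a list of pairs. -/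
def grow (l : List (Nat × Nat)) : List (Nat × Nat) :=
  (l ++ l.map (fun p => (p.2, p.1)) ++ l.map (fun p => (σA.getD p.1 0, σA.getD p.2 0)) ++
    l.map (fun p => (σB.getD p.1 0, σB.getD p.2 0))).dedup

theorem grow_good {l : List (Nat × Nat)} (h : ∀ p ∈ l, Good p) : ∀ p ∈ grow l, Good p := by
  intro p hp
  rw [grow, List.mem_dedup, List.mem_append, List.mem_append, List.mem_append] at hp
  rcases hp with ((hp | hp) | hp) | hp
  · exact h p hp
  · obtain ⟨q, hq, rfl⟩ := List.mem_map.mp hp; exact good_swap (h q hq)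
  · obtain ⟨q, hq, rfl⟩ := List.mem_map.mp hp
    exact good_conj hσA (by decide +kernel) (h q hq)
  · obtain ⟨q, hq, rfl⟩ := List.mem_map.mp hp
    exact good_conj hσB (by decide +kernel) (h q hq)

theorem iter_good {l : List (Nat × Nat)} (h : ∀ p ∈ l, Good p) : ∀ n, ∀ p ∈ grow^[n] l, Good p
  | 0 => h
  | n + 1 => by rw [Function.iterate_succ_apply']; exact grow_good (iter_good h n)

/-- The word of the relation of a pair. -/
def pairW (i j : Nat) : List Nat :=
  (words.getD i [] ++ words.getD j []) ++ (words.getD i [] ++ words.getD j [])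

/-- The word of the cube. -/
def cubeW (i : Nat) : List Nat :=
  words.getD i [] ++ (words.getD i [] ++ words.getD i [])

/-- The word `(x² z)⁻¹ g i (x² z) g j`. -/
def qW (i j : Nat) : List Nat :=
  [4, 1, 1] ++ (words.getD i [] ++ ([0, 0, 4] ++ words.getD j []))

theorem cores_ok : check Cert.c0 (conv6 (cubeW 0)) = true ∧ check Cert.c1 (conv6 (cubeW 1)) = true ∧
    check Cert.c2 (conv6 (cubeW 2)) = true ∧ check Cert.c3 (conv6 (cubeW 3)) = true ∧
    check Cert.p10 (conv6 (pairW 1 0)) = true ∧ check Cert.p20 (conv6 (pairW 2 0)) = true ∧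
    check Cert.p21 (conv6 (pairW 2 1)) = true ∧ check Cert.p30 (conv6 (pairW 3 0)) = true ∧
    check Cert.p43 (conv6 (pairW 4 3)) = true ∧ check Cert.p31 (conv6 (pairW 3 1)) = true ∧
    check Cert.q3 (conv6 (qW 3 3)) = true ∧ check Cert.q2 (conv6 (qW 2 1)) = true := by
  decide +kernel

theorem pair_of_check {i j : Nat} {s : List (Nat × Nat × Nat × List Nat)}
    (hc : check s (conv6 (pairW i j)) = true) : (g i * g j) ^ 2 = 1 := by
  have := one_of_check hc
  rwa [pairW, ev_append, ev_append, ← pow_two] at this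

theorem cube_of_check {i : Nat} {s : List (Nat × Nat × Nat × List Nat)}
    (hc : check s (conv6 (cubeW i)) = true) : g i ^ 3 = 1 := by
  have := one_of_check hc
  rwa [cubeW, ev_append, ev_append, ← mul_assoc, ← pow_two, ← pow_succ] at this

theorem pair32 : (g 3 * g 2) ^ 2 = 1 := by
  obtain ⟨-, -, -, -, -, -, -, -, -, h31, hq3, hq2⟩ := cores_ok
  have e3 := one_of_check hq3
  have e2 := one_of_check hq2
  have h : (g 3 * g 1) ^ 2 = 1 := pair_of_check h31
  rw [qW, ev_append, ev_append, ev_append] at e3 e2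
  have einv : ev L7 [4, 1, 1] = (ev L7 [0, 0, 4])⁻¹ := ev_inv7 [0, 0, 4]
  rw [einv] at e3 e2
  change (ev L7 [0, 0, 4])⁻¹ * (g 3 * (ev L7 [0, 0, 4] * g 3)) = 1 at e3
  change (ev L7 [0, 0, 4])⁻¹ * (g 2 * (ev L7 [0, 0, 4] * g 1)) = 1 at e2
  generalize ev L7 [0, 0, 4] = q at e3 e2
  rw [inv_mul_eq_one, ← mul_assoc] at e3 e2
  have f3 : g 3 = q * (g 3)⁻¹ * q⁻¹ := by
    calc g 3 = g 3 * q * g 3 * (g 3)⁻¹ * q⁻¹ := by group
      _ = q * (g 3)⁻¹ * q⁻¹ := by rw [← e3]
  have f2 : g 2 = q * (g 1)⁻¹ * q⁻¹ := by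
    calc g 2 = g 2 * q * g 1 * (g 1)⁻¹ * q⁻¹ := by group
      _ = q * (g 1)⁻¹ * q⁻¹ := by rw [← e2]
  have h' : (g 1 * g 3) ^ 2 = 1 :=
    (good_swap (p := (3, 1)) ⟨by norm_num, by norm_num, h⟩).2.2
  rw [f3, f2, show (q * (g 3)⁻¹ * q⁻¹ * (q * (g 1)⁻¹ * q⁻¹)) ^ 2 =
    q * ((g 1 * g 3) ^ 2)⁻¹ * q⁻¹ by simp [pow_two, mul_assoc], h']
  group

/-- The seeds. -/
def seeds : List (Nat × Nat) := [(1, 0), (2, 0), (2, 1), (3, 0), (4, 3), (3, 1), (3, 2)]

theorem all_pairs_covered : (fun l : List (Nat × Nat) =>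
    (List.range 10).all fun i => (List.range 10).all fun j => i == j || l.contains (i, j))
      (grow^[7] seeds) = true := by
  decide +kernel

theorem pair_rel {i j : Nat} (hi : i < 10) (hj : j < 10) (hij : i ≠ j) : (g i * g j) ^ 2 = 1 := by
  have hmem : (i, j) ∈ grow^[7] seeds := by
    have h := List.all_eq_true.mp (List.all_eq_true.mp all_pairs_covered i (List.mem_range.mpr hi)) j
      (List.mem_range.mpr hj)
    simpa [hij] using h
  refine (iter_good ?_ 7 _ hmem).2.2
  obtain ⟨-, -, -, -, h10, h20, h21, h30, h43, h31, -, -⟩ := cores_ok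
  intro p hp
  simp only [seeds, List.mem_cons, List.not_mem_nil, or_false] at hp
  rcases hp with rfl | rfl | rfl | rfl | rfl | rfl | rfl
  · exact ⟨by norm_num, by norm_num, pair_of_check h10⟩
  · exact ⟨by norm_num, by norm_num, pair_of_check h20⟩
  · exact ⟨by norm_num, by norm_num, pair_of_check h21⟩
  · exact ⟨by norm_num, by norm_num, pair_of_check h30⟩
  · exact ⟨by norm_num, by norm_num, pair_of_check h43⟩
  · exact ⟨by norm_num, by norm_num, pair_of_check h31⟩
  · exact ⟨by norm_num, by norm_num, pair32⟩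

/-- One round of closing a list of indices. -/
def grow1 (l : List Nat) : List Nat :=
  (l ++ l.map (fun k => σA.getD k 0) ++ l.map (fun k => σB.getD k 0)).dedup

theorem cubes_covered : ∀ i < 10, i ∈ grow1^[5] [0, 1, 2, 3] := by decide +kernel

theorem cube_rel {i : Nat} (hi : i < 10) : g i ^ 3 = 1 := by
  have key : ∀ n, ∀ k ∈ grow1^[n] [0, 1, 2, 3], k < 10 ∧ g k ^ 3 = 1 := by
    intro n
    induction n with
    | zero =>
      obtain ⟨h0, h1, h2, h3, -⟩ := cores_ok
      intro k hk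
      simp only [Function.iterate_zero_apply, List.mem_cons, List.not_mem_nil, or_false] at hk
      rcases hk with rfl | rfl | rfl | rfl
      · exact ⟨by norm_num, cube_of_check h0⟩
      · exact ⟨by norm_num, cube_of_check h1⟩
      · exact ⟨by norm_num, cube_of_check h2⟩
      · exact ⟨by norm_num, cube_of_check h3⟩
    | succ n ih =>
      intro k hk
      rw [Function.iterate_succ_apply', grow1, List.mem_dedup, List.mem_append, List.mem_append] at hk
      rcases hk with (hk | hk) | hk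
      · exact ih k hk
      · obtain ⟨q, hq, rfl⟩ := List.mem_map.mp hk
        obtain ⟨ql, qc⟩ := ih q hq
        refine ⟨(by decide +kernel : ∀ q < 10, σA.getD q 0 < 10) q ql, ?_⟩
        rw [hσA q ql]
        generalize ev L7 hA = e
        rw [show (e⁻¹ * g q * e) ^ 3 = e⁻¹ * g q ^ 3 * e by simp [pow_succ, mul_assoc], qc]
        group
      · obtain ⟨q, hq, rfl⟩ := List.mem_map.mp hk
        obtain ⟨ql, qc⟩ := ih q hq
        refine ⟨(by decide +kernel : ∀ q < 10, σB.getD q 0 < 10) q ql, ?_⟩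
        rw [hσB q ql]
        generalize ev L7 hB = e
        rw [show (e⁻¹ * g q * e) ^ 3 = e⁻¹ * g q ^ 3 * e by simp [pow_succ, mul_assoc], qc]
        group
  exact (key 5 i (cubes_covered i hi)).2

theorem g_zero : g 0 = gz * gt⁻¹ := by simp [g, words, L7, fl]

theorem g_zero_ne [IsSimpleGroup Gr] (hc : Nat.card Gr = 273030912000000) : g 0 ≠ 1 := by
  intro h
  rw [g_zero, mul_inv_eq_one] at h
  have ht : gt = 1 := by
    have h2 : gt * gt = 1 := h ▸ r_z
    calc gt = gt ^ 5 := by simp [pow_succ, mul_assoc, h2]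
      _ = 1 := r_t
  have hz : gz = 1 := h.trans ht
  have hx2 : gx * gx = 1 := by simpa [hz] using r_zx
  have hall : ∀ r ∈ Cfsg.Spor.HN.extra, FreeGroup.lift (pick gx gy gz gt) r = 1 :=
    fun r hr => lift_rel hr
  simp only [Cfsg.Spor.HN.extra, List.forall_mem_cons] at hall
  obtain ⟨hy6, -, -, -, -, -, -, -, -, hx3, -⟩ := hall
  simp only [map_mul, map_pow, map_inv, FreeGroup.lift_apply_of, pick, hz, mul_one, one_mul,
    inv_mul_cancel] at hx3 hy6
  have hx : gx = 1 := by
    rw [pow_succ, pow_two, hx2, one_mul] at hx3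
    exact hx3
  have hgen : Subgroup.zpowers gy = ⊤ := by
    rw [eq_top_iff, ← PresentedGroup.closure_range_of
      (Cfsg.Spor.coxRelators Cfsg.Spor.HN.edges ∪ {r | r ∈ Cfsg.Spor.HN.extra}),
      Subgroup.closure_le]
    rintro _ ⟨a, rfl⟩
    cases a
    · exact (show gx ∈ Subgroup.zpowers gy by rw [hx]; exact one_mem _)
    · exact Subgroup.mem_zpowers gy
    · exact (show gz ∈ Subgroup.zpowers gy by rw [hz]; exact one_mem _)
    · exact (show gt ∈ Subgroup.zpowers gy by rw [ht]; exact one_mem _)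
  have h6 := orderOf_le_of_pow_eq_one (by norm_num) hy6
  have hcard := Nat.card_zpowers gy
  rw [hgen, Subgroup.card_top, hc] at hcard
  omega

theorem two_le_val (k : Fin 12) (a : k ≠ 0) (b : k ≠ 1) : 2 ≤ k.val := by
  have h0 : k.val ≠ 0 := fun h => a (Fin.ext h)
  have h1 : k.val ≠ 1 := fun h => b (Fin.ext h)
  omega

/-- A word's number. -/
theorem sub_two_lt (k : Fin 12) : k.val - 2 < 10 := by omega

/-- The statement, given order and simplicity. -/
theorem statement [IsSimpleGroup Gr] (hc : Nat.card Gr = 273030912000000) :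
    ∃ H : Subgroup (Equiv.Perm (Fin 1140000)), Cfsg.IsHN H ∧ MulAction.IsPretransitive H (Fin 1140000) ∧
      Nonempty (MulAction.stabilizer H (0 : Fin 1140000) ≃* alternatingGroup (Fin 12)) := by
  refine main hc (fun i => g (i.val - 2)) (fun i _ _ => cube_rel (sub_two_lt i)) ?_ ?_
  · intro i j hi0 hi1 hj0 hj1 hij
    have a := two_le_val i hi0 hi1
    have b := two_le_val j hj0 hj1
    exact pair_rel (sub_two_lt i) (sub_two_lt j) (fun h => hij (Fin.ext (by omega)))
  · exact g_zero_ne hc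

end CfsgLib.HNTwelve
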