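import Cfsg.Agent.Coset.HN.Out.Main

/-!
Certificates for relations in the presented `HN`: replacing a subword by an equal one.

Words are in the letters `x, x⁻¹, y, y⁻¹, z, t`.  A step replaces a subword either by a word equal
to it in the group on `x, y, z` (decided on the 1408 points), or by a rule following from
`t ^ 5 = (z t) ^ 3 = z ^ 2 = 1`, or moves a power of `t` past a word in `x, y`, or rotates.
-/

set_option autoImplicit false
set_option maxRecDepth 100000
set_option Elab.async false

namespace CfsgLib.HNTwelve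

open CfsgLib.Coset CfsgLib.Coset.HN CfsgLib.Coset.HN.Out

local notation "Gr" => Cfsg.Spor.HN

/-- The letters `x, x⁻¹, y, y⁻¹, z, t`. -/
noncomputable def L6 : List Gr := [gx, gx⁻¹, gy, gy⁻¹, gz, gt]

/-- The power to which a word in `x, y` raises `t`. -/
def expo : List Nat → Nat
  | [] => 1
  | l :: w => ([3, 2, 1, 1].getD l 1 * expo w) % 5

/-- A power of `t` moved past a word in `x, y`. -/
def pushOne (u v : List Nat) : Bool :=
  (u.drop (u.takeWhile (· == 5)).length).all (fun l => decide (l < 4)) &&
    u == List.replicate (u.takeWhile (· == 5)).length 5 ++ u.drop (u.takeWhile (· == 5)).length &&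
    v == u.drop (u.takeWhile (· == 5)).length ++
      List.replicate (v.length - (u.drop (u.takeWhile (· == 5)).length).length) 5 &&
    ((u.takeWhile (· == 5)).length * expo (u.drop (u.takeWhile (· == 5)).length)) % 5 ==
      (v.length - (u.drop (u.takeWhile (· == 5)).length).length) % 5

/-- The rules. -/
def rules : List (List Nat × List Nat) :=
  [([5, 5, 5, 5, 5], []), ([5, 4, 5], [4, 5, 5, 5, 5, 4]), ([5, 5, 5, 5, 4, 5, 5, 5, 5], [4, 5, 4]),
    ([5], [4, 5, 5, 5, 5, 4, 5, 5, 5, 5, 4]), ([5, 5, 5, 5], [4, 5, 4, 5, 4]), ([4, 4], [])]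

/-- One replacement. -/
noncomputable def okStep (k : Nat) (u v : List Nat) : Bool :=
  match k with
  | 0 => checkLetters 5 [u, v] && ST.eqB KD.Tb u v
  | 1 => rules.contains (u, v) || rules.contains (v, u)
  | 2 => pushOne u v || pushOne v u
  | _ => false

/-- A sequence of replacements ending in the empty word. -/
noncomputable def check : List (Nat × Nat × Nat × List Nat) → List Nat → Bool
  | [], w => w.isEmpty
  | (k, p, l, v) :: s, w =>
    if k = 5 then check s (w.drop p ++ w.take p)
    else okStep k ((w.drop p).take l) v && check s (w.take p ++ (v ++ (w.drop p).drop l))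

theorem ev_L6_K : ∀ w : List Nat, (∀ l ∈ w, l < 5) → ev L6 w = ι (ev Lk w)
  | [], _ => by simp
  | l :: w, h => by
    have hl : l < 5 := h l (by simp)
    rw [ev_cons, ev_cons, map_mul, ev_L6_K w fun x hx => h x (by simp [hx]), ι_fl]
    congr 1
    interval_cases l <;> rfl

theorem ev_replicate (a : Nat) : ev L6 (List.replicate a 5) = gt ^ a := by
  induction a with
  | zero => simp
  | succ a ih => rw [List.replicate_succ, ev_cons, ih, pow_succ']; rfl

theorem gt_semi : ∀ w : List Nat, (∀ l ∈ w, l < 4) → SemiconjBy (ev L6 w) (gt ^ expo w) gt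
  | [], _ => by simp [expo, SemiconjBy]
  | l :: w, h => by
    have hl : l < 4 := h l (by simp)
    have h1 : SemiconjBy (fl L6 l) (gt ^ [3, 2, 1, 1].getD l 1) gt := by
      have hx : SemiconjBy gx (gt ^ 3) gt := by
        show gx * gt ^ 3 = gt * gx
        rw [← gt_x]; group
      have hy : SemiconjBy gy gt gt := gt_y.symm
      interval_cases l
      · exact hx
      · show gx⁻¹ * gt ^ 2 = gt * gx⁻¹
        have h2 : gx⁻¹ * gt ^ 2 = gx⁻¹ * gt ^ 2 * gx * gx⁻¹ := by group
        have h3 : gx⁻¹ * gt ^ 2 * gx = gt := by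
          calc gx⁻¹ * gt ^ 2 * gx = gx⁻¹ * gt * gx * (gx⁻¹ * gt * gx) := by simp [pow_two, mul_assoc]
            _ = gt ^ 5 * gt := by rw [gt_x, ← pow_add, pow_succ]
            _ = gt := by rw [r_t, one_mul]
        rw [h2, h3]
      · simpa [L6, fl] using hy
      · simpa [L6, fl] using hy.inv_symm_left
    have h2 := gt_semi w fun x hx => h x (by simp [hx])
    have h3 := (h1.mul_left (h2.pow_right ([3, 2, 1, 1].getD l 1)))
    rw [ev_cons]
    have e : gt ^ expo (l :: w) = (gt ^ expo w) ^ [3, 2, 1, 1].getD l 1 := by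
      rw [← pow_mul, expo, ← pow_mod_orderOf gt, ← pow_mod_orderOf gt (expo w * _),
        mul_comm (expo w)]
      congr 1
      exact Nat.mod_mod_of_dvd _ (orderOf_dvd_of_pow_eq_one r_t)
    rw [e]
    exact h3

theorem gt_pow_eq {a b : Nat} (h : a % 5 = b % 5) : gt ^ a = gt ^ b := by
  rw [← Nat.div_add_mod a 5, ← Nat.div_add_mod b 5, pow_add, pow_add, pow_mul, pow_mul, r_t,
    one_pow, one_pow, h]

theorem pushOne_sound {u v : List Nat} (h : pushOne u v = true) : ev L6 u = ev L6 v := by
  unfold pushOne at h
  simp only [Bool.and_eq_true, List.all_eq_true, decide_eq_true_eq, beq_iff_eq] at h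
  obtain ⟨⟨⟨hn, hu⟩, hv⟩, hc⟩ := h
  generalize (u.takeWhile (· == 5)).length = a at *
  generalize u.drop a = n at *
  rw [hu, hv, ev_append, ev_append, ev_replicate, ev_replicate, ← gt_pow_eq hc, mul_comm a,
    pow_mul]
  exact ((gt_semi n hn).pow_right a).eq.symm

theorem rules_sound : ∀ r ∈ rules, ev L6 r.1 = ev L6 r.2 := by
  have h4 : gt * (gt * (gt * gt)) = gt⁻¹ :=
    eq_inv_of_mul_eq_one_left (by rw [← r_t]; simp [pow_succ, mul_assoc])
  have h4' : ∀ g : Gr, gt * (gt * (gt * (gt * g))) = gt⁻¹ * g := fun g => by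
    rw [← h4]; simp only [mul_assoc]
  have e1 : gt * gz * gt = gz * gt⁻¹ * gz := by
    have h := r_zt
    rw [show (gz * gt) ^ 3 = gz * gt * gz * (gt * gz * gt) by simp [pow_succ, mul_assoc],
      mul_eq_one_iff_inv_eq] at h
    rw [← h]; simp [mul_assoc, gz_inv]
  have e3 : gt⁻¹ * gz * gt⁻¹ = gz * gt * gz := by
    have := congrArg Inv.inv e1
    simpa [mul_assoc, gz_inv] using this
  have zz : ∀ g : Gr, gz * (gz * g) = g := fun g => by rw [← mul_assoc, r_z, one_mul]
  have e4 : gt = gz * gt⁻¹ * gz * (gt⁻¹ * gz) := by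
    rw [← e1]; simp [mul_assoc, r_z]
  have e5 : gt⁻¹ = gz * gt * gz * (gt * gz) := by
    rw [← e3]; simp [mul_assoc, r_z]
  simp only [rules, List.forall_mem_cons, List.forall_mem_nil, and_true]
  refine ⟨?_, ?_, ?_, ?_, ?_, ?_⟩ <;> simp only [L6, fl, ev_cons, ev_nil, mul_one,
    List.getD_cons_succ, List.getD_cons_zero, h4, h4']
  · rw [mul_inv_cancel]
  · simpa [mul_assoc] using e1
  · simpa [mul_assoc] using e3
  · simpa [mul_assoc] using e4
  · simpa [mul_assoc] using e5
  · simpa [List.getD] using r_z

theorem okStep_sound {k : Nat} {u v : List Nat} (h : okStep k u v = true) :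
    ev L6 u = ev L6 v := by
  match k with
  | 0 =>
    simp only [okStep, Bool.and_eq_true] at h
    have hu := letters_lt h.1 u (by simp)
    have hv := letters_lt h.1 v (by simp)
    rw [ev_L6_K u hu, ev_L6_K v hv,
      (eqW (by rwa [length_Lk]) (by rwa [length_Lk])).mp h.2]
  | 1 =>
    simp only [okStep, Bool.or_eq_true, List.contains_iff_mem] at h
    rcases h with h | h
    · exact rules_sound _ h
    · exact (rules_sound _ h).symm
  | 2 =>
    simp only [okStep, Bool.or_eq_true] at h
    rcases h with h | h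
    · exact pushOne_sound h
    · exact (pushOne_sound h).symm
  | k + 3 => simp [okStep] at h

/-- A checked word is trivial. -/
theorem check_sound : ∀ (s : List (Nat × Nat × Nat × List Nat)) (w : List Nat),
    check s w = true → ev L6 w = 1
  | [], w, h => by
    rw [show w = [] by simpa [check] using h, ev_nil]
  | (k, p, l, v) :: s, w, h => by
    rw [check] at h
    split at h
    · have h1 := check_sound s _ h
      rw [ev_append, mul_eq_one_iff_eq_inv] at h1
      rw [← List.take_append_drop p w, ev_append, h1, mul_inv_cancel]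
    · simp only [Bool.and_eq_true] at h
      have h1 := check_sound s _ h.2
      rw [ev_append, ev_append] at h1
      rw [← List.take_append_drop p w, ev_append, ← List.take_append_drop l (w.drop p), ev_append,
        okStep_sound h.1]
      exact h1

end CfsgLib.HNTwelve
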